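import Cfsg.Agent.Fi22Mult94.Lifts

/-!
# The Schur multiplier of Fi22 is a quotient of a cyclic group of order six

Normalised lifts satisfy the Coxeter relations and one `E7` relator; the other `E7` relator
takes a value of order at most two and the spider a value of order at most three.
-/

set_option autoImplicit false
set_option maxRecDepth 100000

namespace Cfsg.Agent.Fi22Mult94

open Cfsg.Agent.CosetEnum
open scoped commutatorElement

variable {E : Type} [Group E] {σ : E →* G} (hσ : Function.Surjective σ)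
  (hc : σ.ker ≤ Subgroup.center E)

theorem rel_extra {W : List ℕ} (h : W ∈ Fi22.extraWords) : V W = 1 :=
  Fi22.pres.rel_val W (List.mem_append_right _ h)

include hσ hc in
theorem Lift.braidData {L : ℕ → E} (hL : Lift σ L) : Braid L false where
  sq h := absurd h (by simp)
  comm x y h := hL.comm σ hσ hc x y h
  braid x y h := hL.braid x y h

/-- A seven-letter Coxeter element and its reverse have conjugate lifts. -/
theorem Braid.rev_pow {f : ℕ → E} {del : Bool} (h : Braid f del) {u g : List ℕ} {ms : List (ℕ × ℕ)}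
    (c : certB del (u ++ g) (g ++ u.reverse) ms [] = true) {n : ℕ}
    (hz : ∀ z, Commute (evalWord f u ^ n) z) : evalWord f u.reverse ^ n = evalWord f u ^ n := by
  have e := h.cert c
  rw [evalWord_append, evalWord_append] at e
  have hs : SemiconjBy (evalWord f g) (evalWord f u.reverse) (evalWord f u) := e.symm
  have := (hs.pow_right n).eq
  rw [(hz _).eq] at this
  exact mul_left_cancel this

theorem rot2_ok : certB false (Data.rot2u ++ Data.rot2g) (Data.rot2g ++ Data.rot2u.reverse)
    Data.rot2m [] = true := by decide +kernel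

theorem rot3_ok : certB true (Data.rot3u ++ Data.rot3g) (Data.rot3g ++ Data.rot3u.reverse)
    Data.rot3m [] = true := by decide +kernel

include hσ hc in
/-- Lifts satisfying all Coxeter relations and one relator. -/
theorem exists_good : ∃ L : ℕ → E, Braid L true ∧
    (∀ x < 9, σ (L x) = Fi22.pres.val x) ∧
    evalWord L (repWord Data.rot2u 9) = 1 := by
  obtain ⟨L, hL⟩ := exists_lift σ hσ hc
  have hB := hL.braidData hσ hc
  have hs := ker_comm σ hc (hL.sq_ker hc)
  set s := sqv L with hs_def
  set r := evalWord L Data.rot2u ^ 9 with hr_def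
  have hrk : σ r = 1 := by
    rw [hr_def, map_pow, hL.map_word, V, ← evalWord_repWord]
    exact rel_extra (by decide)
  have hr := ker_comm σ hc hrk
  have hmul : evalWord L Data.rot2u * evalWord L Data.rot2u.reverse = s ^ 7 :=
    mul_reverse hs Data.rot2u fun x hx => hL.sq hc x (by
      revert x; decide)
  have hrev : evalWord L Data.rot2u.reverse = (evalWord L Data.rot2u)⁻¹ * s ^ 7 :=
    eq_inv_mul_of_mul_eq hmul
  have hr2 : r * r = s ^ 63 := by
    have e := hB.rev_pow rot2_ok (n := 9) hr
    rw [hrev, ((hs _).pow_left 7).symm.mul_pow, ← pow_mul, inv_pow, ← hr_def,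
      inv_mul_eq_iff_eq_mul] at e
    exact e.symm
  set b := r * (s ^ 32)⁻¹ with hb_def
  have hbk : σ b = 1 := by rw [hb_def, map_mul, map_inv, hrk, map_pow, hL.sq_ker hc]; simp
  have hbc := ker_comm σ hc hbk
  have hb2 : b * b = s⁻¹ := by
    rw [hb_def, (hr (s ^ 32)⁻¹).symm.mul_mul_mul_comm, hr2]
    group
  refine ⟨fun x => L x * b, ⟨fun _ x hx => ?_, fun x y h => ?_, fun x y h => ?_⟩, fun x _ => ?_, ?_⟩
  · show L x * b * (L x * b) = 1
    rw [(hbc (L x)).mul_mul_mul_comm, hL.sq hc x hx, hb2, ← hs_def, mul_inv_cancel]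
  · show L x * b * (L y * b) = L y * b * (L x * b)
    rw [(hbc (L y)).mul_mul_mul_comm, (hbc (L x)).mul_mul_mul_comm, hB.comm x y h]
  · show L x * b * (L y * b * (L x * b)) = L y * b * (L x * b * (L y * b))
    have e : ∀ p q : E, p * b * (q * b) = p * q * (b * b) := fun p q => (hbc q).mul_mul_mul_comm p b
    have e2 : ∀ p q : E, p * b * (q * b * (p * b)) = p * (q * p) * (b * (b * b)) := by
      intro p q
      rw [e q p]
      rw [(hbc (q * p)).mul_mul_mul_comm p (b * b)]
    rw [e2, e2, hB.braid x y h]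
  · show σ (L x * b) = _
    rw [map_mul, hbk, mul_one, hL.lift]
  · have e : ∀ W : List ℕ, evalWord (fun x => L x * b) W = evalWord L W * b ^ W.length := by
      intro W
      induction W with
      | nil => simp [evalWord]
      | cons x W ih =>
        show L x * b * evalWord (fun x => L x * b) W = L x * evalWord L W * b ^ (W.length + 1)
        rw [ih, pow_succ', (hbc (evalWord L W)).mul_mul_mul_comm]
    rw [evalWord_repWord, e, ((hbc _).pow_left _).symm.mul_pow, ← hr_def, ← pow_mul,
      show Data.rot2u.length * 9 = 2 * 31 + 1 from rfl, pow_succ, pow_mul, pow_two, hb2, hb_def,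
      show r * ((s⁻¹) ^ 31 * (r * (s ^ 32)⁻¹)) = r * r * ((s⁻¹) ^ 31 * (s ^ 32)⁻¹) by
        rw [← mul_assoc ((s⁻¹) ^ 31) r, ← (hr ((s⁻¹) ^ 31)).eq]; group, hr2]
    group

theorem conjA_ok : certB true ([7] ++ repWord Data.tWord 3 ++ [7])
    (repWord Data.tWord 3 ++ Data.wWord ++ repWord Data.tWord.reverse 3 ++ Data.wWord.reverse)
    Data.aL Data.aR = true := by decide +kernel

/-- The words of the five translations. -/
def pT (i : ℕ) : List ℕ :=
  Data.pWords.getD i [] ++ Data.tWord.reverse ++ (Data.pWords.getD i []).reverse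

theorem conjB_ok : certB true (repWord Data.uWord 10) (pT 0 ++ pT 1 ++ pT 2 ++ pT 3 ++ pT 4)
    Data.bL Data.bR = true := by decide +kernel

theorem p01 : certB true (pT 0 ++ pT 1) (pT 1 ++ pT 0) Data.p01L Data.p01R = true := by decide +kernel
theorem p02 : certB true (pT 0 ++ pT 2) (pT 2 ++ pT 0) Data.p02L Data.p02R = true := by decide +kernel
theorem p03 : certB true (pT 0 ++ pT 3) (pT 3 ++ pT 0) Data.p03L Data.p03R = true := by decide +kernel
theorem p04 : certB true (pT 0 ++ pT 4) (pT 4 ++ pT 0) Data.p04L Data.p04R = true := by decide +kernel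
theorem p12 : certB true (pT 1 ++ pT 2) (pT 2 ++ pT 1) Data.p12L Data.p12R = true := by decide +kernel
theorem p13 : certB true (pT 1 ++ pT 3) (pT 3 ++ pT 1) Data.p13L Data.p13R = true := by decide +kernel
theorem p14 : certB true (pT 1 ++ pT 4) (pT 4 ++ pT 1) Data.p14L Data.p14R = true := by decide +kernel
theorem p23 : certB true (pT 2 ++ pT 3) (pT 3 ++ pT 2) Data.p23L Data.p23R = true := by decide +kernel
theorem p24 : certB true (pT 2 ++ pT 4) (pT 4 ++ pT 2) Data.p24L Data.p24R = true := by decide +kernel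
theorem p34 : certB true (pT 3 ++ pT 4) (pT 4 ++ pT 3) Data.p34L Data.p34R = true := by decide +kernel

theorem tWord_cube : sameB (repWord Data.tWord 3) [] = true := by decide +kernel

theorem letters_ok : (Data.tWord ++ Data.wWord ++ Data.pWords.flatten ++ Data.rot3u).all
    (fun x => Nat.blt x 9) = true := by decide +kernel

theorem letters {W : List ℕ} (h : ∀ x ∈ W, x ∈ Data.tWord ++ Data.wWord ++ Data.pWords.flatten ++
    Data.rot3u) : W.all (fun x => Nat.blt x 9) = true :=
  List.all_eq_true.mpr fun x hx => List.all_eq_true.mp letters_ok x (h x hx)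

theorem repWord_all : ∀ (n : ℕ) (u : List ℕ), ∀ x ∈ repWord u n, x ∈ u
  | 0, _, x, h => by simp [repWord] at h
  | n + 1, u, x, h => by
    rcases List.mem_append.mp h with h | h
    · exact h
    · exact repWord_all n u x h

theorem map_word {L : ℕ → E} (hlift : ∀ x < 9, σ (L x) = Fi22.pres.val x) :
    ∀ W : List ℕ, W.all (fun x => Nat.blt x 9) = true → σ (evalWord L W) = V W
  | [], _ => map_one σ
  | x :: W, h => by
    rw [List.all_cons, Bool.and_eq_true] at h
    show σ (L x * evalWord L W) = Fi22.pres.val x * _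
    rw [map_mul, hlift x (Nat.le_of_ble_eq_true h.1), map_word hlift W h.2]

include hc in
/-- The spider relator has cube one and the other relator square one. -/
theorem relator_orders {L : ℕ → E} (hB : Braid L true) (hlift : ∀ x < 9, σ (L x) = Fi22.pres.val x) :
    evalWord L (repWord Data.uWord 10) ^ 3 = 1 ∧
      evalWord L (repWord Data.rot3u 9) * evalWord L (repWord Data.rot3u 9) = 1 := by
  have hsq := hB.sq rfl
  constructor
  · set t := evalWord L Data.tWord with ht_def
    have hT : Data.tWord.all (fun x => Nat.blt x 9) = true := letters fun x hx => by simp [hx]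
    have hW : Data.wWord.all (fun x => Nat.blt x 9) = true := letters fun x hx => by simp [hx]
    have hk : σ (t ^ 3) = 1 := by
      rw [map_pow, ht_def, map_word hlift _ hT, V, ← evalWord_repWord]
      exact word_eq tWord_cube
    have hz := ker_comm σ hc hk
    have h7 : L 7 * L 7 = 1 := hsq 7 (by omega)
    have hA := hB.cert conjA_ok
    simp only [evalWord_append, evalWord_repWord, evalWord, mul_one] at hA
    rw [eval_reverse hsq hT, eval_reverse hsq hW, ← ht_def, inv_pow, ← (hz (L 7)).eq, mul_assoc, h7,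
      mul_one] at hA
    have e3 : t ^ 3 = 1 := by
      rw [hA, mul_assoc (t ^ 3), ← ((hz (evalWord L Data.wWord)).inv_left).eq]
      group
    have hp : ∀ i, evalWord L (pT i) ^ 3 = 1 := by
      intro i
      have hP : (Data.pWords.getD i []).all (fun x => Nat.blt x 9) = true := letters fun x hx => by
        rcases Nat.lt_or_ge i Data.pWords.length with h | h
        · rw [List.getD_eq_getElem _ _ h] at hx
          have : x ∈ Data.pWords.flatten := List.mem_flatten.mpr ⟨_, List.getElem_mem h, hx⟩
          simp [this]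
        · rw [List.getD_eq_default _ _ h] at hx
          simp at hx
      rw [pT, evalWord_append, evalWord_append, eval_reverse hsq hT, eval_reverse hsq hP, conj_pow,
        inv_pow, e3, inv_one, mul_one, mul_inv_cancel]
    have C : ∀ {i j : ℕ} {a b : List (ℕ × ℕ)}, certB true (pT i ++ pT j) (pT j ++ pT i) a b = true →
        Commute (evalWord L (pT i)) (evalWord L (pT j)) := fun h => by
      have := hB.cert h
      rwa [evalWord_append, evalWord_append] at this
    rw [hB.cert conjB_ok]
    simp only [evalWord_append]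
    rw [(((C p04).mul_left (C p14)).mul_left (C p24)).mul_left (C p34) |>.mul_pow,
      (((C p03).mul_left (C p13)).mul_left (C p23)).mul_pow, ((C p02).mul_left (C p12)).mul_pow,
      (C p01).mul_pow, hp, hp, hp, hp, hp]
    simp
  · have hu : Data.rot3u.all (fun x => Nat.blt x 9) = true := letters fun x hx => by simp [hx]
    have hk : σ (evalWord L Data.rot3u ^ 9) = 1 := by
      rw [map_pow, map_word hlift _ hu, V, ← evalWord_repWord]
      exact rel_extra (by decide)
    have := hB.rev_pow rot3_ok (ker_comm σ hc hk)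
    rw [eval_reverse hsq hu, inv_pow, inv_eq_iff_mul_eq_one] at this
    rwa [evalWord_repWord]

include hσ hc in
/-- Stem extensions have a kernel generated by one element of order dividing six. -/
theorem bound (hd : σ.ker ≤ commutator E) :
    ∃ π : Multiplicative (ZMod 6) →* σ.ker, Function.Surjective π := by
  obtain ⟨L, hB, hlift, h2⟩ := exists_good hσ hc
  obtain ⟨hρ, hz⟩ := relator_orders hc hB hlift
  set ρ := evalWord L (repWord Data.uWord 10) with hρ_def
  set z := evalWord L (repWord Data.rot3u 9) with hz_def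
  have hρk : σ ρ = 1 := by
    rw [hρ_def, map_word hlift _ (by decide)]
    exact rel_extra (by decide)
  have hzk : σ z = 1 := by
    rw [hz_def, map_word hlift _ (by decide)]
    exact rel_extra (by decide)
  have hp : σ (ρ * z) = 1 := by rw [map_mul, hρk, hzk, mul_one]
  set Q := Subgroup.zpowers (ρ * z) with hQ_def
  have hQ : Q ≤ σ.ker := Subgroup.zpowers_le.mpr hp
  haveI : Q.Normal := ⟨fun n hn g => by
    rw [Subgroup.mem_center_iff.mp (hc (hQ hn)) g, mul_inv_cancel_right]; exact hn⟩
  have hcom : Commute ρ z := ker_comm σ hc hρk z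
  have hz2 : z ^ 2 = 1 := by rw [pow_two]; exact hz
  have hρQ : ρ ∈ Q := Subgroup.mem_zpowers_iff.mpr ⟨(4 : ℕ), by
    rw [zpow_natCast, hcom.mul_pow, show ρ ^ 4 = ρ by rw [pow_succ, hρ, one_mul],
      show z ^ 4 = (z ^ 2) ^ 2 by rw [← pow_mul], hz2, one_pow, mul_one]⟩
  have hzQ : z ∈ Q := Subgroup.mem_zpowers_iff.mpr ⟨(3 : ℕ), by
    rw [zpow_natCast, hcom.mul_pow, hρ, one_mul, pow_succ, hz2, one_mul]⟩
  let v : Cfsg.Spor.Fi22.Gen → E ⧸ Q := fun x => QuotientGroup.mk (L (Fi22.pres.gens.idxOf x))
  have hv : ∀ W : List ℕ, W.all (fun x => Nat.blt x 9) = true →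
      evalWord (letterVal Fi22.pres.gens v) W = QuotientGroup.mk' Q (evalWord L W) := by
    intro W
    induction W with
    | nil => intro _; rfl
    | cons x W ih =>
      intro h
      rw [List.all_cons, Bool.and_eq_true] at h
      have hx : x < Fi22.pres.gens.length := Nat.le_of_ble_eq_true h.1
      show letterVal Fi22.pres.gens v x * _ = QuotientGroup.mk' Q (L x * evalWord L W)
      rw [ih h.2, map_mul, letterVal_of_lt _ _ hx]
      show QuotientGroup.mk (L _) * _ = _
      rw [List.Nodup.idxOf_getElem Fi22.nodup]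
      rfl
  have hrelB : Fi22.pres.relWords.all (fun W => W.all (fun x => Nat.blt x 9) &&
      (match W with
      | [i, j] => i == j
      | [i, j, i', j'] => commB i j && i' == i && j' == j
      | [i, j, i', j', i'', j''] => adjB i j && i' == i && j' == j && i'' == i && j'' == j
      | _ => W == repWord Data.uWord 10 || W == repWord Data.rot2u 9 || W == repWord Data.rot3u 9)) =
      true := by decide +kernel
  have hrel : ∀ W ∈ Fi22.pres.relWords, evalWord (letterVal Fi22.pres.gens v) W = 1 := by
    intro W hW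
    have h := List.all_eq_true.mp hrelB W hW
    rw [Bool.and_eq_true] at h
    obtain ⟨hl, hm⟩ := h
    rw [hv W hl, QuotientGroup.mk'_apply, QuotientGroup.eq_one_iff]
    split at hm
    · rename_i i j
      rw [beq_iff_eq] at hm
      subst hm
      simp only [List.all_cons, Bool.and_eq_true] at hl
      have : evalWord L [i, i] = 1 := by
        simp only [evalWord, mul_one]; exact hB.sq rfl i (Nat.le_of_ble_eq_true hl.1)
      rw [this]; exact one_mem _
    · rename_i i j i' j'
      simp only [Bool.and_eq_true, beq_iff_eq] at hm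
      obtain ⟨⟨hij, rfl⟩, rfl⟩ := hm
      simp only [List.all_cons, Bool.and_eq_true] at hl
      have h1 := hB.sq rfl i' (Nat.le_of_ble_eq_true hl.1)
      have h2 := hB.sq rfl j' (Nat.le_of_ble_eq_true hl.2.1)
      have : evalWord L [i', j', i', j'] = 1 := by
        simp only [evalWord, mul_one]
        rw [← mul_assoc (L j'), ← hB.comm i' j' hij, mul_assoc, h2, mul_one, h1]
      rw [this]; exact one_mem _
    · rename_i i j i' j' i'' j''
      simp only [Bool.and_eq_true, beq_iff_eq] at hm
      obtain ⟨⟨⟨⟨hij, rfl⟩, rfl⟩, rfl⟩, rfl⟩ := hm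
      simp only [List.all_cons, Bool.and_eq_true] at hl
      have h1 := hB.sq rfl i'' (Nat.le_of_ble_eq_true hl.1)
      have h2 := hB.sq rfl j'' (Nat.le_of_ble_eq_true hl.2.1)
      have : evalWord L [i'', j'', i'', j'', i'', j''] = 1 := by
        simp only [evalWord, mul_one]
        calc L i'' * (L j'' * (L i'' * (L j'' * (L i'' * L j''))))
            = L i'' * (L j'' * L i'') * (L j'' * (L i'' * L j'')) := by simp only [mul_assoc]
          _ = L i'' * (L j'' * L i'') * (L i'' * (L j'' * L i'')) := by rw [hB.braid i'' j'' hij]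
          _ = L i'' * L j'' * (L i'' * L i'') * (L j'' * L i'') := by simp only [mul_assoc]
          _ = 1 := by rw [h1, mul_one, mul_assoc, ← mul_assoc (L j''), h2, one_mul, h1]
      rw [this]; exact one_mem _
    · simp only [Bool.or_eq_true, beq_iff_eq] at hm
      rcases hm with (rfl | rfl) | rfl
      · exact hρQ
      · rw [h2]; exact one_mem _
      · exact hzQ
  let φ : G →* E ⧸ Q := PresentedGroup.toGroup (Fi22.pres.kills v hrel)
  let σQ : E ⧸ Q →* G := QuotientGroup.lift Q σ hQ
  have hsec : σQ.comp φ = MonoidHom.id G := by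
    refine PresentedGroup.ext fun x => ?_
    rw [MonoidHom.comp_apply, PresentedGroup.toGroup.of, MonoidHom.id_apply]
    show σ (L (Fi22.pres.gens.idxOf x)) = _
    have hx : Fi22.pres.gens.idxOf x < Fi22.pres.gens.length :=
      List.idxOf_lt_length_iff.mpr (Fi22.pres.all_gens x)
    rw [hlift _ hx, InvPres.val, letterVal_of_lt _ _ hx, List.getElem_idxOf]
  have hsec' : ∀ g : G, σQ (φ g) = g := fun g => DFunLike.congr_fun hsec g
  have hcen : ∀ (e : E), ∃ k, σ k = 1 ∧ (QuotientGroup.mk e : E ⧸ Q) = φ (σ e) * QuotientGroup.mk k := by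
    intro e
    obtain ⟨f, hf⟩ := QuotientGroup.mk_surjective (φ (σ e))
    refine ⟨f⁻¹ * e, ?_, by rw [← hf, ← QuotientGroup.mk_mul, mul_inv_cancel_left]⟩
    have : σ f = σ e := by
      have := congrArg σQ hf
      rwa [hsec'] at this
    rw [map_mul, map_inv, this, inv_mul_cancel]
  have hrange : commutator E ≤ φ.range.comap (QuotientGroup.mk' Q) := by
    rw [commutator_def, Subgroup.commutator_le]
    intro e₁ _ e₂ _
    obtain ⟨k₁, hk₁, h₁⟩ := hcen e₁
    obtain ⟨k₂, hk₂, h₂⟩ := hcen e₂
    rw [Subgroup.mem_comap, map_commutatorElement]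
    have c₁ : ∀ q : E ⧸ Q, Commute (QuotientGroup.mk k₁) q := fun q => by
      obtain ⟨p, rfl⟩ := QuotientGroup.mk_surjective q
      exact (ker_comm σ hc hk₁ p).map (QuotientGroup.mk' Q)
    have c₂ : ∀ q : E ⧸ Q, Commute (QuotientGroup.mk k₂) q := fun q => by
      obtain ⟨p, rfl⟩ := QuotientGroup.mk_surjective q
      exact (ker_comm σ hc hk₂ p).map (QuotientGroup.mk' Q)
    refine ⟨⁅σ e₁, σ e₂⁆, ?_⟩
    rw [map_commutatorElement, QuotientGroup.mk'_apply, QuotientGroup.mk'_apply, h₁, h₂,
      commutatorElement_def, commutatorElement_def]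
    generalize φ (σ e₁) = p
    generalize φ (σ e₂) = q
    symm
    calc p * QuotientGroup.mk k₁ * (q * QuotientGroup.mk k₂) * (p * QuotientGroup.mk k₁)⁻¹ *
          (q * QuotientGroup.mk k₂)⁻¹
        = p * QuotientGroup.mk k₁ * q * (QuotientGroup.mk k₂ * ((QuotientGroup.mk k₁)⁻¹ * p⁻¹)) *
          ((QuotientGroup.mk k₂)⁻¹ * q⁻¹) := by group
      _ = p * QuotientGroup.mk k₁ * q * ((QuotientGroup.mk k₁)⁻¹ * p⁻¹) *
          (QuotientGroup.mk k₂ * (QuotientGroup.mk k₂)⁻¹) * q⁻¹ := by rw [(c₂ _).eq]; group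
      _ = p * (QuotientGroup.mk k₁ * q * (QuotientGroup.mk k₁)⁻¹) * p⁻¹ * q⁻¹ := by group
      _ = p * q * p⁻¹ * q⁻¹ := by rw [(c₁ q).eq]; group
  have hle : σ.ker ≤ Q := by
    intro k hk
    obtain ⟨g, hg⟩ := hrange (hd hk)
    have : g = 1 := by
      have := congrArg σQ hg
      rw [hsec'] at this
      exact this.trans hk
    rw [this, map_one, QuotientGroup.mk'_apply, eq_comm, QuotientGroup.eq_one_iff] at hg
    exact hg
  let p : σ.ker := ⟨ρ * z, hp⟩
  have hp6 : p ^ 6 = 1 := Subtype.ext (by
    show (ρ * z) ^ 6 = 1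
    rw [hcom.mul_pow, show (6 : ℕ) = 3 * 2 from rfl, pow_mul, hρ, one_pow, one_mul,
      show (3 : ℕ) * 2 = 2 * 3 from rfl, pow_mul, hz2, one_pow])
  let f : ℤ →+ Additive σ.ker := zmultiplesHom _ (Additive.ofMul p)
  have hf : f ((6 : ℕ) : ℤ) = 0 := by
    show ((6 : ℕ) : ℤ) • Additive.ofMul p = 0
    rw [natCast_zsmul, ← ofMul_pow, hp6, ofMul_one]
  let F : ZMod 6 →+ Additive σ.ker := ZMod.lift 6 ⟨f, hf⟩
  refine ⟨AddMonoidHom.toMultiplicativeLeft F, fun k => ?_⟩
  obtain ⟨m, hm⟩ := Subgroup.mem_zpowers_iff.mp (hle k.2)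
  refine ⟨Multiplicative.ofAdd (m : ZMod 6), ?_⟩
  show Additive.toMul (F (m : ZMod 6)) = k
  rw [ZMod.lift_coe]
  apply Subtype.ext
  rw [← hm]
  rfl

end Cfsg.Agent.Fi22Mult94
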