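import Mathlib

/-!
Data for the Schur multiplier of Fi22: nine matrices of size 54 over the two-element field
(27-dimensional over the four-element field), conjugating words and braid certificates.
-/

set_option autoImplicit false
set_option maxRecDepth 100000

namespace Cfsg.Agent.Fi22Mult94.Data

def g0 : List ℕ := [1, 2, 4, 8, 16, 32, 64, 128, 256, 512, 1024, 2048, 4096, 8192, 16384, 32768, 65536, 131072, 262144, 524288, 1048576, 136314880, 272629760, 545259520, 1090519040, 2181038080, 4362076160, 134217728, 268435456, 536870912, 1073741824, 2147483648, 4294967296, 8589934592, 17179869184, 34359738368, 68719476736, 137438953472, 274877906944, 549755813888, 1099511627776, 2199023255552, 4398046511104, 8796093022208, 17592186044416, 35184372088832, 70368744177664, 140737488355328, 281475110928385, 562950221856770, 1125900443713540, 2251800887427080, 4503601774854160, 9007203549708320]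

def g1 : List ℕ := [281474978807808, 562949957615616, 1125899915231232, 2251799830462464, 4503599660924928, 9007199321849856, 64, 128, 256, 512, 1024, 2048, 4096, 8192, 16384, 32768, 65536, 131072, 262144, 524288, 1048576, 134217728, 268435456, 536870912, 1073741824, 2147483648, 4294967296, 2097152, 4194304, 8388608, 16777216, 33554432, 67108864, 8589934592, 17179869184, 34359738368, 68719476736, 137438953472, 274877906944, 549755813888, 1099511627776, 2199023255552, 4398046511104, 8796093022208, 17592186044416, 35184372088832, 70368744177664, 140737488355328, 134217729, 268435458, 536870916, 1073741832, 2147483664, 4294967328]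

def g2 : List ℕ := [9, 2, 4, 8, 16, 32, 64, 128, 256, 512, 1024, 2048, 2147487808, 1073750016, 16384, 32928, 65536, 131080, 268698112, 525316, 1048576, 17592339144704, 272630272, 137984212992, 1090519040, 2181038144, 21541945344, 1207959552, 268435456, 536870912, 1073741824, 2147483648, 4294967296, 8589934592, 17179869184, 34359738368, 68719476736, 137438953472, 274877906944, 560493232144, 1100585369608, 2199023255552, 4419521347584, 8796093022208, 17593259786240, 35253360001026, 70506720002048, 140737488355328, 2551966622416897, 563018941333506, 1126037882668036, 2251800887427080, 4503610364788752, 9007220729577632]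

def g3 : List ℕ := [1, 2, 4, 9, 16, 32, 4160, 32896, 256, 262656, 525312, 2048, 4096, 8192, 16384, 32768, 65536, 131072, 262144, 524288, 1048576, 2097152, 4194304, 8388608, 18874368, 33554432, 67108864, 134217728, 268435456, 536870912, 1207959552, 2147483648, 4294967296, 558345748480, 4415226380288, 34359738368, 35253091565568, 70506183131136, 274877906944, 549755813888, 1099511627776, 2199023255552, 4398046511104, 8796093022208, 17592186044416, 35184372088832, 70368744177664, 140737488355328, 281474976710656, 562949953421312, 1125899906842624, 2533274790395904, 4503599627370496, 9007199254740992]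

def g4 : List ℕ := [25, 26, 4, 8, 16, 32, 64, 128, 320, 576, 1024, 2048, 4160, 8256, 16384, 34944, 67712, 131072, 275200, 541696, 1065984, 52428800, 54525952, 8388608, 16777216, 33554432, 67108864, 3355443200, 3489660928, 536870912, 1073741824, 2147483648, 4294967296, 8589934592, 17179869184, 42949672960, 77309411328, 137438953472, 274877906944, 558345748480, 1108101562368, 2199023255552, 4690104287232, 9088150798336, 17592186044416, 36936718745600, 72705206386688, 143073950564352, 7036874417766400, 7318349394477056, 1125899906842624, 2251799813685248, 4503599627370496, 9007199254740992]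

def g5 : List ℕ := [1, 2, 4, 8, 18, 32, 576, 128, 256, 512, 1024, 67584, 266240, 8192, 1064960, 32768, 65536, 131072, 262144, 524288, 1048576, 2097152, 4194304, 8388608, 16777216, 37748736, 67108864, 134217728, 268435456, 536870912, 1073741824, 2415919104, 4294967296, 77309411328, 17179869184, 34359738368, 68719476736, 137438953472, 9070970929152, 35734127902720, 1099511627776, 142936511610880, 4398046511104, 8796093022208, 17592186044416, 35184372088832, 70368744177664, 140737488355328, 281474976710656, 562949953421312, 1125899906842624, 2251799813685248, 5066549580791808, 9007199254740992]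

def g6 : List ℕ := [1, 18, 4, 8, 16, 32, 64, 128, 256, 576, 1024, 2048, 4096, 8192, 16384, 32768, 67584, 131072, 266240, 524288, 1064960, 2097152, 37748736, 8388608, 16777216, 33554432, 67108864, 134217728, 2415919104, 536870912, 1073741824, 2147483648, 4294967296, 8589934592, 17179869184, 34359738368, 77309411328, 137438953472, 274877906944, 549755813888, 1099511627776, 2199023255552, 4398046511104, 9070970929152, 17592186044416, 35734127902720, 70368744177664, 142936511610880, 281474976710656, 5066549580791808, 1125899906842624, 2251799813685248, 4503599627370496, 9007199254740992]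

def g7 : List ℕ := [41, 2, 44, 8, 16, 32, 64, 128, 384, 512, 1152, 2048, 6208, 8192, 18496, 32896, 65536, 131200, 328192, 689408, 1114624, 85983232, 4194304, 92274688, 16777216, 33554432, 67108864, 5502926848, 268435456, 5905580032, 1073741824, 2147483648, 4294967296, 8589934592, 17179869184, 51539607552, 68719476736, 154618822656, 274877906944, 833223655424, 1099511627776, 2482491097088, 4415226380288, 8796093022208, 17609365913600, 44049184587776, 92530775425024, 149602300854272, 11540474045136896, 562949953421312, 12384898975268864, 2251799813685248, 4503599627370496, 9007199254740992]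

def g8 : List ℕ := [1, 2, 4, 8, 16, 36, 64, 1152, 256, 512, 1024, 18432, 4096, 8192, 16384, 557056, 1114112, 131072, 262144, 524288, 1048576, 2097152, 4194304, 8388608, 16777216, 33554432, 75497472, 134217728, 268435456, 536870912, 1073741824, 2147483648, 4831838208, 8589934592, 154618822656, 34359738368, 68719476736, 137438953472, 2473901162496, 549755813888, 1099511627776, 2199023255552, 74766790688768, 149533581377536, 17592186044416, 35184372088832, 70368744177664, 140737488355328, 281474976710656, 562949953421312, 1125899906842624, 2251799813685248, 4503599627370496, 10133099161583616]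

def omR : List ℕ := [134217728, 268435456, 536870912, 1073741824, 2147483648, 4294967296, 8589934592, 17179869184, 34359738368, 68719476736, 137438953472, 274877906944, 549755813888, 1099511627776, 2199023255552, 4398046511104, 8796093022208, 17592186044416, 35184372088832, 70368744177664, 140737488355328, 281474976710656, 562949953421312, 1125899906842624, 2251799813685248, 4503599627370496, 9007199254740992, 134217729, 268435458, 536870916, 1073741832, 2147483664, 4294967328, 8589934656, 17179869312, 34359738624, 68719477248, 137438954496, 274877908992, 549755817984, 1099511635968, 2199023271936, 4398046543872, 8796093087744, 17592186175488, 35184372350976, 70368744701952, 140737489403904, 281474978807808, 562949957615616, 1125899915231232, 2251799830462464, 4503599660924928, 9007199321849856]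

def gens : List (List ℕ) := [g0, g1, g2, g3, g4, g5, g6, g7, g8]

def tWord : List ℕ := [8, 7, 3, 4, 2, 3, 7, 5, 4, 3, 2, 1, 2, 3, 4, 5, 7, 3, 2, 4, 3, 7]

def uWord : List ℕ := [3, 2, 1, 3, 4, 5, 3, 7, 8]

def wWord : List ℕ := [3, 4, 5, 2, 3, 4, 1, 2, 3, 7]

def pWords : List (List ℕ) := [[7, 4, 5, 3, 4, 1, 2, 3, 7],
  [7, 5, 3, 4, 1, 2, 3, 7],
  [5, 4, 1, 2, 3, 7],
  [5, 4, 3, 7],
  [7]]

def aL : List (ℕ × ℕ) := [
  (0, 66), (1, 60), (1, 61), (1, 62), (1, 59), (2, 55), (1, 57), (1, 58), (1, 54), (2, 55), (1, 57), (1, 51),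
  (1, 52), (1, 53), (1, 54), (2, 55), (2, 44), (1, 46), (1, 47), (1, 48), (1, 49), (1, 50), (1, 51), (1, 52),
  (1, 53), (1, 54), (1, 51), (1, 52), (1, 49), (1, 50), (1, 43), (2, 44), (1, 46), (1, 47), (1, 48), (1, 49),
  (1, 48), (1, 46), (1, 47), (1, 41), (1, 42), (1, 43), (2, 44), (1, 46), (2, 33), (1, 35), (1, 36), (1, 37),
  (1, 38), (1, 39), (1, 40), (1, 41), (1, 42), (1, 43), (2, 44), (1, 40), (1, 41), (1, 37), (1, 38), (1, 39),
  (1, 40), (1, 38), (1, 32), (2, 33), (1, 35), (1, 36), (1, 37), (1, 35), (1, 36), (1, 29), (1, 30), (1, 31),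
  (1, 32), (2, 33), (1, 35), (2, 22), (1, 24), (1, 25), (1, 26), (1, 27), (1, 28), (1, 29), (1, 30), (1, 31),
  (1, 32), (2, 33), (1, 29), (1, 30), (1, 27), (1, 28), (1, 21), (2, 22), (1, 24), (1, 25), (1, 26), (1, 27),
  (1, 26), (1, 24), (1, 25), (1, 19), (1, 20), (1, 21), (2, 22), (1, 24), (2, 11), (1, 13), (1, 14), (1, 15),
  (1, 16), (1, 17), (1, 18), (1, 19), (1, 20), (1, 21), (2, 22), (1, 18), (1, 19), (1, 15), (1, 16), (1, 17),
  (1, 18), (1, 16), (1, 10), (2, 11), (1, 13), (1, 14), (1, 15), (1, 13), (1, 14), (1, 7), (1, 8), (1, 9),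
  (1, 10), (2, 11), (1, 13), (2, 0), (1, 2), (1, 3), (1, 4), (1, 5), (1, 6), (1, 7), (1, 8), (1, 9),
  (1, 10), (2, 11)]

def aR : List (ℕ × ℕ) := [
  (2, 64), (1, 66), (1, 67), (1, 68), (1, 63), (2, 64), (1, 66), (1, 62), (2, 60), (2, 62), (1, 64), (1, 65),
  (2, 66), (2, 68), (1, 70), (1, 71), (1, 72), (1, 59), (1, 60), (1, 61), (1, 62), (2, 63), (2, 57), (1, 59),
  (1, 60), (2, 61), (1, 63), (2, 64), (1, 66), (1, 67), (2, 68), (1, 70), (1, 66), (1, 59), (1, 56), (2, 57),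
  (2, 59), (1, 61), (1, 62), (1, 63), (2, 64), (2, 66), (1, 68), (1, 55), (1, 56), (1, 54), (2, 52), (2, 54),
  (2, 56), (1, 58), (1, 59), (1, 60), (1, 61), (1, 62), (1, 63), (1, 64), (1, 57), (1, 55), (1, 50), (1, 49),
  (2, 50), (1, 52), (1, 53), (1, 54), (2, 55), (2, 57), (1, 59), (1, 60), (1, 61), (1, 52), (1, 53), (1, 48),
  (1, 49), (2, 50), (1, 52), (2, 53), (1, 55), (1, 56), (2, 57), (1, 59), (1, 48), (1, 49), (1, 50), (1, 51),
  (1, 47), (2, 45), (2, 47), (1, 49), (1, 50), (2, 51), (1, 53), (1, 54), (1, 55), (1, 56), (2, 57), (2, 59),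
  (2, 61), (1, 63), (2, 64), (1, 66), (1, 67), (2, 68), (2, 70), (2, 72), (0, 74), (2, 72), (0, 74), (1, 67),
  (1, 68), (2, 65), (1, 67), (2, 68), (1, 70), (1, 64), (2, 65), (1, 67), (2, 68), (2, 70), (1, 72), (0, 73),
  (1, 69), (2, 67), (2, 69), (1, 71), (0, 72), (2, 62), (1, 64), (1, 65), (1, 61), (2, 62), (1, 64), (2, 65),
  (1, 67), (1, 68), (2, 69), (0, 71), (0, 70), (1, 58), (2, 56), (2, 58), (1, 60), (1, 61), (1, 62), (1, 63),
  (1, 64), (1, 65), (1, 59), (1, 57), (1, 54), (1, 55), (1, 56), (2, 57), (2, 59), (1, 61), (1, 62), (1, 63),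
  (1, 54), (1, 55), (2, 52), (1, 54), (2, 55), (1, 57), (1, 58), (2, 59), (1, 61), (1, 57), (1, 51), (2, 52),
  (1, 54), (2, 55), (2, 57), (1, 59), (1, 60), (2, 61), (2, 63), (2, 65), (1, 67), (1, 68), (0, 69), (1, 66),
  (1, 64), (1, 50), (1, 51), (1, 52), (2, 48), (1, 50), (1, 51), (2, 52), (1, 54), (1, 55), (1, 56), (1, 57),
  (2, 58), (1, 47), (2, 48), (1, 50), (1, 51), (2, 52), (1, 54), (1, 55), (2, 56), (1, 58), (2, 59), (1, 61),
  (1, 62), (1, 63), (2, 64), (2, 66), (0, 68), (0, 67), (1, 65), (0, 66), (2, 57), (1, 59), (1, 60), (1, 61),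
  (1, 62), (1, 63), (1, 64), (0, 65), (1, 56), (2, 57), (1, 59), (1, 60), (1, 61), (1, 55), (1, 56), (2, 57),
  (1, 54), (1, 55), (1, 53), (2, 51), (2, 53), (2, 55), (1, 57), (2, 58), (1, 60), (2, 61), (1, 63), (0, 64),
  (1, 50), (1, 51), (1, 52), (1, 53), (1, 49), (1, 50), (2, 47), (1, 49), (2, 50), (1, 52), (2, 53), (1, 55),
  (1, 56), (1, 57), (2, 58), (1, 60), (2, 61), (0, 63), (0, 62), (1, 59), (1, 60), (0, 61), (2, 55), (1, 57),
  (1, 58), (1, 54), (2, 55), (1, 52), (1, 53), (1, 51), (2, 45), (1, 47), (1, 48), (1, 49), (1, 50), (2, 51),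
  (2, 53), (1, 55), (2, 56), (2, 58), (0, 60), (0, 59), (1, 57), (0, 58), (2, 54), (1, 56), (0, 57), (1, 52),
  (1, 53), (2, 54), (0, 56), (0, 55), (2, 43), (1, 45), (1, 46), (1, 47), (1, 48), (1, 49), (1, 50), (1, 51),
  (1, 52), (1, 53), (0, 54), (2, 53), (1, 55), (1, 56), (1, 52), (2, 53), (1, 51), (1, 42), (2, 43), (1, 45),
  (1, 46), (1, 47), (1, 48), (2, 49), (2, 51), (1, 53), (2, 54), (2, 56), (0, 58), (1, 57), (2, 52), (1, 54),
  (1, 55), (1, 48), (1, 49), (1, 50), (1, 40), (1, 41), (1, 42), (2, 43), (1, 45), (2, 46), (1, 48), (1, 49),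
  (2, 50), (1, 52), (1, 53), (1, 54), (2, 55), (2, 57), (0, 59), (1, 53), (1, 54), (1, 55), (1, 48), (1, 49),
  (1, 50), (2, 51), (2, 32), (1, 34), (1, 35), (1, 36), (1, 37), (1, 38), (1, 39), (1, 40), (1, 41), (1, 42),
  (2, 43), (1, 45), (2, 46), (1, 48), (2, 49), (1, 51), (2, 52), (1, 54), (2, 55), (1, 57), (0, 58), (1, 44),
  (1, 45), (1, 43), (1, 39), (1, 40), (2, 41), (2, 43), (2, 45), (1, 47), (1, 48), (1, 49), (1, 50), (1, 51),
  (1, 52), (1, 53), (1, 46), (1, 47), (1, 44), (1, 45), (1, 42), (1, 43), (1, 36), (1, 37), (1, 38), (1, 39),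
  (1, 40), (1, 41), (1, 42), (2, 43), (2, 45), (2, 47), (1, 49), (1, 37), (2, 38), (1, 40), (1, 41), (1, 42),
  (1, 43), (1, 31), (2, 32), (1, 34), (1, 35), (1, 36), (1, 37), (2, 38), (1, 40), (1, 34), (1, 35), (1, 36),
  (1, 28), (1, 29), (1, 30), (1, 31), (2, 32), (1, 34), (2, 21), (1, 23), (1, 24), (1, 25), (1, 26), (1, 27),
  (1, 28), (1, 29), (1, 30), (1, 31), (2, 32), (2, 34), (2, 36), (1, 38), (1, 39), (2, 40), (1, 42), (2, 43),
  (1, 45), (1, 46), (2, 47), (2, 49), (1, 51), (1, 52), (2, 53), (1, 55), (1, 56), (0, 57), (1, 56), (2, 54),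
  (2, 56), (0, 58), (1, 52), (1, 53), (1, 54), (1, 51), (1, 50), (2, 51), (1, 53), (2, 54), (1, 56), (0, 57),
  (1, 48), (1, 49), (1, 50), (2, 46), (1, 48), (2, 44), (1, 46), (1, 47), (2, 48), (2, 50), (1, 52), (1, 53),
  (1, 54), (2, 55), (0, 57), (1, 52), (1, 53), (1, 51), (1, 49), (1, 42), (1, 41), (2, 42), (1, 44), (1, 45),
  (1, 46), (1, 47), (1, 48), (2, 49), (2, 51), (2, 53), (1, 55), (0, 56), (1, 52), (1, 39), (1, 40), (1, 41),
  (1, 42), (1, 43), (2, 44), (2, 37), (1, 39), (1, 40), (1, 41), (2, 42), (1, 44), (2, 45), (1, 47), (1, 48),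
  (1, 49), (2, 50), (2, 52), (1, 54), (0, 55), (1, 47), (1, 48), (1, 35), (1, 36), (2, 37), (1, 39), (2, 40),
  (1, 42), (1, 43), (1, 44), (2, 45), (1, 47), (2, 48), (1, 50), (1, 51), (2, 52), (0, 54), (0, 53), (1, 52),
  (2, 53), (1, 55), (1, 56), (1, 51), (1, 52), (2, 53), (1, 50), (1, 51), (1, 49), (1, 33), (1, 34), (1, 35),
  (1, 36), (2, 31), (1, 33), (1, 34), (1, 28), (1, 29), (1, 30), (2, 31), (1, 29), (1, 26), (1, 27), (1, 20),
  (2, 21), (1, 23), (1, 24), (1, 25), (1, 26), (2, 27), (2, 29), (1, 31), (2, 32), (2, 34), (2, 36), (1, 38),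
  (1, 39), (1, 40), (1, 41), (1, 42), (1, 43), (1, 44), (1, 45), (1, 46), (2, 47), (2, 49), (2, 51), (1, 53),
  (2, 54), (2, 56), (0, 58), (1, 57), (2, 52), (1, 54), (1, 55), (1, 46), (1, 47), (1, 48), (1, 49), (1, 50),
  (1, 45), (1, 46), (1, 37), (1, 38), (1, 35), (1, 36), (2, 30), (1, 32), (1, 33), (1, 34), (1, 25), (1, 26),
  (1, 27), (1, 28), (1, 23), (1, 24), (1, 18), (1, 19), (1, 20), (2, 21), (1, 23), (2, 24), (1, 26), (1, 27),
  (2, 28), (1, 30), (1, 31), (1, 32), (1, 33), (2, 34), (2, 36), (2, 38), (1, 40), (1, 41), (1, 42), (2, 43),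
  (1, 45), (2, 46), (1, 48), (1, 49), (2, 50), (1, 52), (1, 53), (1, 54), (2, 55), (2, 57), (0, 59), (1, 53),
  (1, 54), (1, 55), (1, 48), (1, 49), (1, 50), (2, 51), (1, 31), (1, 32), (1, 33), (1, 34), (1, 26), (1, 27),
  (1, 28), (2, 29), (1, 31), (2, 10), (1, 12), (1, 13), (1, 14), (1, 15), (1, 16), (1, 17), (1, 18), (1, 19),
  (1, 20), (2, 21), (1, 23), (2, 24), (1, 26), (2, 27), (1, 29), (1, 30), (2, 31), (1, 33), (2, 34), (1, 36),
  (1, 37), (2, 38), (1, 40), (2, 41), (1, 43), (1, 44), (1, 45), (2, 46), (1, 48), (2, 49), (1, 51), (2, 52),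
  (1, 54), (2, 55), (1, 57), (0, 58), (1, 57), (1, 58), (1, 56), (2, 39), (1, 41), (1, 42), (1, 43), (1, 44),
  (1, 45), (1, 38), (2, 39), (1, 41), (1, 42), (1, 43), (1, 37), (1, 38), (2, 39), (1, 41), (1, 36), (1, 37),
  (1, 35), (1, 22), (1, 23), (1, 21), (1, 17), (1, 18), (2, 19), (2, 21), (2, 23), (1, 25), (1, 26), (1, 27),
  (1, 28), (1, 29), (1, 30), (1, 31), (1, 32), (2, 33), (2, 35), (2, 37), (1, 39), (1, 40), (2, 41), (2, 43),
  (2, 45), (1, 47), (1, 48), (1, 49), (1, 50), (1, 51), (1, 52), (1, 53), (2, 54), (2, 56), (2, 58), (0, 60),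
  (1, 53), (1, 54), (1, 55), (1, 56), (1, 52), (1, 53), (1, 46), (1, 47), (1, 44), (1, 45), (1, 42), (1, 43),
  (1, 32), (1, 33), (1, 34), (1, 35), (1, 31), (1, 32), (1, 24), (1, 25), (1, 22), (1, 23), (1, 20), (1, 21),
  (1, 14), (1, 15), (1, 16), (1, 17), (1, 18), (1, 19), (1, 20), (2, 21), (2, 23), (2, 25), (1, 27), (1, 28),
  (2, 29), (1, 31), (2, 32), (1, 34), (2, 35), (1, 37), (1, 38), (1, 39), (1, 40), (1, 41), (1, 42), (2, 43),
  (2, 45), (2, 47), (1, 49), (2, 50), (1, 52), (2, 53), (1, 55), (2, 56), (1, 58), (0, 59), (2, 48), (1, 50),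
  (1, 51), (1, 52), (1, 47), (2, 48), (1, 50), (1, 46), (1, 28), (1, 29), (1, 30), (1, 31), (1, 32), (1, 33),
  (1, 34), (1, 35), (1, 36), (2, 37), (2, 26), (1, 28), (1, 29), (1, 30), (1, 25), (2, 26), (1, 28), (1, 24),
  (1, 15), (2, 16), (1, 18), (1, 19), (1, 20), (1, 21), (2, 22), (2, 24), (1, 26), (1, 27), (2, 28), (2, 30),
  (1, 32), (1, 33), (1, 34), (2, 35), (1, 37), (2, 38), (1, 40), (1, 41), (1, 42), (1, 43), (2, 44), (2, 46),
  (1, 48), (1, 49), (2, 50), (2, 52), (1, 54), (1, 55), (1, 56), (2, 57), (0, 59), (1, 54), (1, 55), (1, 53),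
  (1, 51), (1, 43), (1, 44), (1, 32), (1, 33), (1, 31), (1, 29), (1, 21), (1, 22), (1, 9), (2, 10), (1, 12),
  (1, 13), (1, 14), (1, 15), (2, 16), (1, 18), (2, 19), (1, 21), (2, 22), (1, 24), (1, 25), (1, 26), (1, 27),
  (1, 28), (2, 29), (2, 31), (2, 33), (1, 35), (1, 36), (1, 37), (2, 38), (1, 40), (2, 41), (1, 43), (2, 44),
  (1, 46), (1, 47), (1, 48), (1, 49), (1, 50), (2, 51), (2, 53), (2, 55), (1, 57), (0, 58), (1, 54), (1, 40),
  (1, 41), (1, 42), (1, 43), (1, 44), (1, 45), (2, 46), (1, 39), (1, 32), (1, 18), (1, 19), (1, 20), (1, 21),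
  (1, 22), (1, 23), (2, 24), (1, 17), (1, 12), (1, 13), (1, 14), (2, 15), (2, 17), (1, 19), (1, 20), (1, 21),
  (2, 22), (1, 24), (2, 25), (1, 27), (1, 28), (1, 29), (2, 30), (2, 32), (1, 34), (1, 35), (1, 36), (2, 37),
  (2, 39), (1, 41), (1, 42), (1, 43), (2, 44), (1, 46), (2, 47), (1, 49), (1, 50), (1, 51), (2, 52), (2, 54),
  (1, 56), (0, 57), (1, 49), (1, 50), (1, 27), (1, 28), (1, 6), (1, 7), (1, 8), (1, 9), (2, 10), (1, 12),
  (2, 13), (1, 15), (1, 16), (2, 17), (1, 19), (2, 20), (1, 22), (1, 23), (1, 24), (2, 25), (1, 27), (2, 28),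
  (1, 30), (1, 31), (2, 32), (1, 34), (2, 35), (1, 37), (1, 38), (2, 39), (1, 41), (2, 42), (1, 44), (1, 45),
  (1, 46), (2, 47), (1, 49), (2, 50), (1, 52), (1, 53), (2, 54), (0, 56), (0, 55)]

def bL : List (ℕ × ℕ) := [
  (1, 80), (1, 81), (1, 82), (1, 83), (1, 84), (1, 85), (1, 86), (2, 87), (1, 77), (1, 78), (1, 79), (1, 80),
  (1, 81), (1, 82), (2, 83), (1, 74), (1, 75), (1, 76), (1, 77), (1, 78), (2, 79), (2, 76), (1, 78), (1, 79),
  (2, 72), (1, 74), (1, 75), (2, 76), (1, 78), (1, 74), (1, 62), (1, 63), (1, 64), (1, 65), (1, 66), (1, 67),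
  (1, 68), (2, 69), (1, 71), (2, 72), (2, 74), (1, 76), (1, 77), (1, 73), (1, 64), (1, 65), (1, 66), (1, 67),
  (1, 68), (1, 69), (1, 66), (1, 67), (1, 68), (2, 64), (1, 66), (1, 67), (2, 60), (1, 62), (1, 63), (2, 64),
  (1, 66), (1, 62), (1, 50), (1, 51), (1, 52), (1, 53), (1, 54), (1, 55), (1, 56), (2, 57), (1, 59), (2, 60),
  (2, 62), (1, 64), (1, 65), (1, 61), (1, 58), (1, 59), (1, 60), (1, 57), (1, 44), (1, 45), (1, 46), (1, 47),
  (1, 48), (1, 49), (2, 50), (2, 47), (1, 49), (1, 50), (2, 42), (1, 44), (1, 45), (1, 46), (2, 47), (1, 49),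
  (1, 45), (1, 46), (1, 47), (1, 48), (1, 44), (1, 32), (1, 33), (1, 34), (1, 35), (1, 36), (1, 37), (1, 38),
  (2, 39), (1, 41), (2, 42), (2, 44), (1, 46), (1, 47), (1, 43), (1, 40), (1, 41), (1, 42), (1, 29), (1, 30),
  (1, 31), (1, 32), (1, 33), (1, 34), (2, 35), (2, 29), (1, 31), (1, 32), (1, 26), (1, 27), (1, 28), (1, 29),
  (2, 30), (2, 24), (1, 26), (1, 27), (2, 28), (1, 30), (1, 26), (1, 14), (1, 15), (1, 16), (1, 17), (1, 18),
  (1, 19), (1, 20), (2, 21), (1, 23), (2, 24), (2, 26), (1, 28), (1, 29), (1, 25), (1, 11), (1, 12), (1, 13),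
  (1, 14), (1, 15), (1, 16), (2, 17), (2, 11), (1, 13), (1, 14), (1, 8), (1, 9), (1, 10), (1, 11), (2, 12),
  (2, 6), (1, 8), (1, 9), (2, 10), (1, 12)]

def bR : List (ℕ × ℕ) := [
  (0, 8), (0, 7), (1, 4), (1, 5), (0, 6), (0, 5), (1, 3), (0, 4), (1, 0), (1, 1), (1, 2), (0, 3),
  (1, 1), (0, 2), (1, 0), (0, 1), (1, 0), (2, 1), (0, 3), (0, 21), (2, 19), (2, 17), (1, 19), (2, 20),
  (0, 22), (1, 16), (1, 17), (1, 18), (1, 19), (1, 20), (0, 21), (2, 14), (1, 16), (1, 17), (1, 18), (2, 19),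
  (0, 21), (0, 21), (2, 19), (1, 21), (0, 22), (1, 18), (2, 19), (0, 21), (1, 17), (1, 18), (1, 16), (2, 14),
  (2, 16), (2, 18), (1, 20), (0, 21), (1, 19), (0, 20), (1, 40), (0, 41), (1, 29), (1, 18), (1, 19), (1, 20),
  (1, 21), (1, 22), (1, 23), (2, 24), (1, 26), (2, 27), (2, 29), (1, 31), (1, 32), (1, 33), (2, 34), (1, 36),
  (2, 37), (1, 39), (0, 40), (1, 36), (1, 37), (1, 38), (0, 39), (1, 38), (1, 35), (2, 36), (2, 38), (0, 40),
  (2, 38), (0, 40), (2, 36), (1, 38), (1, 39), (0, 40), (1, 38), (1, 35), (2, 36), (2, 38), (0, 40), (1, 39),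
  (1, 37), (1, 25), (1, 26), (1, 24), (2, 17), (1, 19), (1, 20), (1, 21), (2, 22), (2, 24), (2, 26), (1, 28),
  (1, 29), (1, 30), (1, 31), (1, 32), (1, 33), (1, 34), (1, 35), (1, 36), (2, 37), (2, 39), (0, 41), (0, 59),
  (0, 58), (1, 40), (1, 41), (1, 42), (2, 43), (1, 45), (2, 46), (1, 48), (1, 49), (2, 50), (1, 52), (2, 53),
  (1, 55), (1, 56), (1, 48), (1, 38), (1, 39), (1, 40), (1, 41), (1, 42), (2, 43), (1, 45), (2, 46), (2, 48),
  (1, 50), (1, 51), (1, 52), (2, 53), (1, 55), (2, 56), (0, 58), (2, 56), (0, 58), (1, 55), (1, 56), (1, 57),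
  (2, 53), (1, 55), (1, 56), (2, 57), (1, 59), (1, 60), (1, 61), (1, 62), (1, 63), (2, 64), (0, 66), (1, 55),
  (1, 56), (1, 57), (2, 58), (1, 60), (2, 61), (1, 63), (1, 64), (1, 47), (2, 33), (1, 35), (1, 36), (2, 37),
  (1, 39), (2, 40), (1, 42), (1, 43), (1, 44), (2, 45), (2, 47), (1, 49), (1, 50), (1, 51), (1, 52), (2, 53),
  (1, 55), (2, 56), (1, 58), (1, 59), (1, 60), (2, 61), (1, 63), (2, 64), (0, 66), (1, 65), (1, 58), (1, 59),
  (1, 57), (1, 54), (1, 55), (1, 43), (1, 44), (1, 45), (1, 42), (1, 35), (1, 27), (1, 25), (1, 15), (1, 16),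
  (2, 17), (1, 19), (2, 20), (1, 22), (1, 23), (1, 24), (2, 25), (2, 27), (1, 29), (1, 30), (1, 31), (1, 32),
  (2, 33), (2, 35), (1, 37), (1, 38), (1, 39), (2, 40), (2, 42), (1, 44), (2, 45), (1, 47), (1, 48), (1, 49),
  (1, 50), (1, 51), (1, 52), (1, 53), (1, 54), (2, 55), (2, 57), (2, 59), (1, 61), (1, 62), (1, 63), (1, 64),
  (2, 65), (0, 67), (1, 66), (1, 67), (2, 68), (1, 70), (2, 71), (1, 73), (1, 74), (0, 75), (1, 74), (1, 75),
  (1, 73), (2, 71), (2, 73), (2, 75), (1, 77), (1, 78), (1, 79), (0, 80), (1, 79), (1, 76), (2, 77), (2, 79),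
  (1, 81), (1, 82), (1, 83), (1, 74), (2, 75), (1, 77), (1, 78), (2, 79), (1, 81), (1, 62), (1, 63), (1, 64),
  (1, 61), (1, 62), (1, 58), (2, 59), (1, 61), (2, 62), (2, 64), (1, 66), (1, 67), (1, 68), (1, 69), (1, 70),
  (1, 71), (1, 72), (1, 73), (1, 65), (1, 63), (1, 56), (1, 57), (1, 58), (2, 59), (1, 61), (1, 62), (2, 63),
  (2, 65), (1, 67), (1, 68), (2, 56), (1, 58), (1, 59), (1, 60), (1, 61), (1, 55), (2, 56), (1, 58), (1, 54),
  (1, 52), (1, 50), (1, 51), (2, 52), (2, 54), (1, 56), (1, 57), (2, 58), (1, 60), (2, 61), (1, 63), (1, 64),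
  (2, 65), (1, 67), (2, 68), (1, 70), (1, 71), (1, 72), (2, 73), (1, 75), (1, 76), (1, 77), (1, 78), (2, 79),
  (2, 81), (2, 83), (1, 85), (1, 86), (0, 87), (1, 76), (1, 70), (1, 71), (1, 72), (1, 73), (2, 74), (2, 76),
  (1, 78), (1, 79), (1, 63), (1, 51), (1, 52), (1, 41), (1, 34), (1, 31), (2, 32), (2, 34), (1, 36), (1, 37),
  (1, 38), (2, 39), (2, 41), (1, 43), (1, 44), (1, 45), (2, 46), (1, 48), (2, 49), (1, 51), (2, 52), (1, 54),
  (1, 55), (1, 56), (1, 57), (2, 58), (1, 60), (2, 61), (2, 63), (1, 65), (1, 66), (1, 67), (2, 68), (1, 70),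
  (1, 71), (2, 72), (1, 74), (1, 75), (2, 76), (1, 78), (2, 79), (1, 81), (1, 82), (2, 83), (1, 85), (0, 86),
  (1, 81), (1, 74), (1, 56), (1, 57), (1, 58), (1, 59), (1, 60), (1, 61), (2, 54), (1, 56), (1, 57), (1, 58),
  (1, 53), (2, 54), (1, 56), (1, 51), (1, 52), (1, 50), (1, 22), (1, 23), (1, 15), (2, 13), (2, 15), (1, 17),
  (1, 18), (1, 19), (2, 20), (1, 22), (2, 23), (1, 25), (1, 26), (2, 27), (1, 29), (2, 30), (1, 32), (1, 33),
  (2, 34), (1, 36), (2, 37), (1, 39), (1, 40), (2, 41), (1, 43), (2, 44), (1, 46), (1, 47), (1, 48), (1, 49),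
  (2, 50), (2, 52), (1, 54), (1, 55), (2, 56), (2, 58), (1, 60), (2, 61), (1, 63), (1, 64), (1, 65), (1, 66),
  (1, 67), (2, 68), (1, 70), (1, 71), (2, 72), (2, 74), (1, 76), (1, 77), (1, 78), (2, 79), (2, 81), (1, 83),
  (1, 84), (0, 85)]

def p01L : List (ℕ × ℕ) := [
  (0, 8), (0, 7), (1, 4), (1, 5), (0, 6), (0, 5), (1, 3), (0, 4), (1, 0), (1, 1), (1, 2), (0, 3),
  (1, 1), (0, 2), (1, 0), (0, 1), (1, 0), (2, 1), (0, 3), (0, 21), (2, 19), (2, 17), (1, 19), (2, 20),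
  (0, 22), (1, 16), (1, 17), (1, 18), (1, 19), (1, 20), (0, 21), (2, 14), (1, 16), (1, 17), (1, 18), (2, 19),
  (0, 21), (0, 21), (2, 19), (1, 21), (0, 22), (1, 18), (2, 19), (0, 21), (1, 17), (1, 18), (1, 16), (2, 14),
  (2, 16), (2, 18), (1, 20), (0, 21), (1, 19), (0, 20), (1, 29), (1, 18), (1, 19), (1, 20), (1, 21), (1, 22),
  (1, 23), (2, 24), (1, 26), (2, 27), (2, 29), (1, 31), (1, 32), (1, 33), (2, 34), (1, 36), (2, 37), (1, 25),
  (1, 26), (1, 24), (2, 17), (1, 19), (1, 20), (1, 21), (2, 22), (2, 24), (2, 26), (1, 28), (1, 29), (1, 30),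
  (1, 31), (1, 32), (1, 33), (1, 34), (1, 35), (1, 27), (1, 25), (1, 15), (1, 16), (2, 17), (1, 19), (2, 20),
  (1, 22), (1, 23), (1, 24), (2, 25), (2, 27), (1, 29), (1, 30), (1, 31), (1, 22), (1, 23), (1, 15), (2, 13),
  (2, 15), (1, 17), (1, 18), (1, 19), (2, 20), (1, 22), (2, 23), (1, 25), (1, 26), (2, 27), (1, 29), (1, 12),
  (2, 10), (2, 12), (1, 14), (1, 15), (1, 16), (1, 17), (1, 18), (1, 19), (1, 20), (1, 21), (1, 13), (1, 11),
  (1, 9), (1, 10), (2, 11), (2, 13), (1, 15), (1, 16), (1, 17), (1, 8), (1, 9), (2, 6), (1, 8), (2, 9),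
  (1, 11), (1, 12), (2, 13), (1, 15), (1, 2), (1, 3), (1, 4), (1, 5), (1, 6), (1, 7), (2, 0), (1, 2),
  (1, 3)]

def p01R : List (ℕ × ℕ) := [
  (0, 7), (0, 6), (1, 3), (1, 4), (0, 5), (0, 4), (1, 2), (0, 3), (1, 0), (1, 1), (0, 2), (1, 0),
  (0, 1), (1, 0), (1, 1), (2, 2), (0, 4), (0, 21), (2, 20), (2, 18), (1, 20), (2, 21), (0, 23), (1, 17),
  (1, 18), (1, 19), (1, 20), (1, 21), (0, 22), (2, 15), (1, 17), (1, 18), (1, 19), (2, 20), (0, 22), (0, 22),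
  (2, 20), (1, 22), (0, 23), (1, 19), (2, 20), (0, 22), (1, 18), (1, 19), (1, 17), (2, 15), (2, 17), (2, 19),
  (1, 21), (0, 22), (1, 20), (0, 21), (1, 30), (1, 19), (1, 20), (1, 21), (1, 22), (1, 23), (1, 24), (2, 25),
  (1, 27), (2, 28), (2, 30), (1, 32), (1, 33), (1, 34), (2, 35), (1, 37), (2, 38), (1, 26), (1, 27), (1, 25),
  (2, 18), (1, 20), (1, 21), (1, 22), (2, 23), (2, 25), (2, 27), (1, 29), (1, 30), (1, 31), (1, 32), (1, 33),
  (1, 34), (1, 35), (1, 36), (1, 28), (1, 26), (1, 16), (1, 17), (2, 18), (1, 20), (2, 21), (1, 23), (1, 24),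
  (1, 25), (2, 26), (2, 28), (1, 30), (1, 31), (1, 32), (1, 23), (1, 24), (1, 16), (2, 14), (2, 16), (1, 18),
  (1, 19), (1, 20), (2, 21), (1, 23), (2, 24), (1, 26), (1, 27), (2, 28), (1, 30), (1, 13), (2, 11), (2, 13),
  (1, 15), (1, 16), (1, 17), (1, 18), (1, 19), (1, 20), (1, 21), (1, 22), (1, 14), (1, 12), (1, 10), (1, 11),
  (2, 12), (2, 14), (1, 16), (1, 17), (1, 18), (1, 9), (1, 10), (2, 7), (1, 9), (2, 10), (1, 12), (1, 13),
  (2, 14), (1, 16), (1, 3), (1, 4), (1, 5), (1, 6), (1, 7), (1, 8), (2, 1), (1, 3), (1, 4), (1, 0),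
  (2, 1), (1, 3), (2, 4), (1, 6), (1, 7), (2, 8), (1, 10), (1, 11), (1, 12), (1, 13), (2, 14), (2, 16),
  (2, 18), (1, 20), (1, 21), (2, 22), (1, 24), (1, 25), (1, 26), (1, 27), (2, 28), (2, 30), (2, 32), (1, 34),
  (1, 35), (2, 36), (1, 38), (2, 39), (0, 41)]

def p02L : List (ℕ × ℕ) := [
  (0, 8), (0, 7), (1, 4), (1, 5), (0, 6), (0, 5), (1, 3), (0, 4), (1, 0), (1, 1), (1, 2), (0, 3),
  (1, 1), (0, 2), (1, 0), (0, 1), (1, 0), (2, 1), (0, 3), (1, 20), (1, 19), (2, 20), (0, 22), (1, 16),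
  (1, 17), (1, 18), (1, 19), (1, 20), (0, 21), (1, 18), (1, 19), (1, 20), (2, 16), (1, 18), (2, 14), (1, 16),
  (1, 17), (2, 18), (2, 20), (0, 22), (2, 20), (0, 22), (2, 18), (1, 20), (1, 21), (0, 22), (1, 17), (1, 18),
  (1, 19), (1, 16), (2, 14), (2, 16), (1, 18), (2, 19), (1, 21), (1, 22), (0, 23), (1, 18), (1, 19), (2, 20),
  (1, 17), (2, 18), (1, 20), (2, 21), (0, 23), (1, 22), (1, 23), (1, 24), (2, 25), (1, 27), (2, 28), (1, 30),
  (1, 31), (2, 32), (1, 34), (2, 35), (1, 37), (1, 38), (1, 39), (1, 40), (1, 27), (1, 28), (1, 29), (1, 26),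
  (2, 19), (1, 21), (1, 22), (1, 23), (2, 24), (2, 26), (1, 28), (2, 29), (1, 31), (1, 32), (1, 33), (1, 34),
  (1, 35), (1, 36), (1, 37), (2, 38), (1, 28), (1, 29), (1, 27), (2, 16), (1, 18), (1, 19), (1, 20), (1, 21),
  (1, 22), (1, 23), (1, 24), (2, 25), (2, 27), (2, 29), (1, 31), (1, 32), (1, 33), (2, 34), (1, 36), (1, 28),
  (1, 15), (1, 16), (1, 17), (2, 18), (1, 20), (2, 21), (1, 23), (1, 24), (1, 25), (2, 26), (2, 28), (1, 30),
  (1, 31), (1, 32), (1, 23), (1, 24), (1, 16), (1, 14), (1, 13), (2, 14), (2, 16), (1, 18), (1, 19), (1, 20),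
  (2, 21), (1, 23), (2, 24), (1, 26), (1, 27), (2, 28), (1, 30), (1, 12), (1, 13), (1, 11), (1, 10), (2, 11),
  (2, 13), (1, 15), (1, 16), (1, 17), (1, 18), (1, 19), (1, 20), (1, 21), (1, 22), (1, 14), (1, 12), (1, 5),
  (1, 6), (1, 7), (2, 8), (1, 10), (1, 11), (2, 12), (2, 14), (1, 16), (1, 17), (1, 18), (1, 7), (1, 8),
  (1, 9), (1, 10), (1, 4), (2, 5), (1, 7), (2, 3), (1, 5), (1, 6), (2, 7), (1, 9), (2, 10), (1, 12),
  (1, 13), (2, 14), (1, 16), (1, 2), (1, 3), (1, 4), (1, 5), (1, 6), (1, 7), (1, 8), (1, 5), (2, 3),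
  (1, 1), (1, 2)]

def p02R : List (ℕ × ℕ) := [
  (0, 5), (0, 4), (1, 1), (1, 2), (0, 3), (0, 2), (1, 0), (1, 1), (1, 2), (0, 3), (1, 0), (1, 1),
  (1, 2), (1, 3), (2, 4), (0, 6), (1, 21), (1, 20), (2, 21), (0, 23), (1, 19), (1, 20), (1, 21), (1, 22),
  (1, 23), (0, 24), (2, 21), (1, 18), (1, 19), (2, 16), (1, 18), (2, 19), (1, 21), (2, 22), (0, 24), (0, 24),
  (2, 20), (1, 22), (1, 19), (2, 20), (2, 22), (0, 24), (1, 21), (2, 19), (2, 21), (0, 23), (0, 22), (1, 17),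
  (1, 16), (2, 17), (1, 19), (1, 20), (0, 21), (1, 19), (1, 16), (1, 17), (1, 18), (2, 19), (0, 21), (1, 30),
  (1, 20), (1, 21), (1, 22), (1, 23), (1, 24), (2, 25), (1, 27), (2, 28), (2, 30), (1, 32), (1, 33), (1, 34),
  (2, 35), (1, 37), (1, 29), (1, 18), (2, 19), (1, 21), (2, 22), (1, 24), (1, 25), (1, 26), (2, 27), (2, 29),
  (1, 31), (1, 32), (1, 33), (2, 17), (1, 19), (1, 20), (1, 21), (2, 22), (1, 24), (2, 25), (1, 27), (1, 28),
  (2, 29), (1, 31), (2, 14), (1, 16), (1, 17), (1, 18), (1, 19), (1, 20), (1, 21), (1, 22), (1, 23), (1, 15),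
  (1, 13), (1, 12), (2, 13), (2, 15), (1, 17), (1, 18), (1, 19), (1, 11), (1, 10), (2, 11), (1, 13), (1, 14),
  (2, 15), (1, 17), (1, 5), (1, 6), (1, 7), (1, 8), (1, 9), (2, 3), (1, 5), (1, 6), (1, 7), (1, 8),
  (2, 9), (1, 11), (1, 12), (1, 13), (1, 14), (2, 15), (2, 17), (2, 19), (1, 21), (1, 22), (2, 23), (1, 25),
  (1, 26), (1, 27), (1, 28), (2, 29), (2, 31), (2, 33), (1, 35), (1, 36), (2, 37), (0, 39)]

def p03L : List (ℕ × ℕ) := [
  (0, 8), (0, 7), (1, 4), (1, 5), (0, 6), (0, 5), (1, 3), (0, 4), (1, 0), (1, 1), (1, 2), (0, 3),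
  (1, 1), (0, 2), (1, 0), (0, 1), (1, 0), (2, 1), (0, 3), (1, 20), (1, 19), (2, 20), (0, 22), (1, 19),
  (1, 20), (2, 17), (1, 19), (2, 20), (0, 22), (2, 20), (0, 22), (1, 19), (1, 20), (2, 17), (1, 19), (2, 20),
  (1, 22), (1, 23), (1, 24), (0, 25), (1, 19), (1, 20), (1, 21), (2, 22), (2, 24), (1, 26), (1, 27), (1, 28),
  (2, 29), (1, 31), (1, 23), (1, 20), (2, 21), (2, 23), (1, 25), (1, 26), (1, 27), (1, 18), (2, 19), (1, 21),
  (1, 22), (2, 23), (1, 25), (1, 16), (1, 17), (1, 15), (1, 16), (2, 17), (1, 19), (1, 20), (1, 21), (1, 22),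
  (2, 23), (2, 25), (2, 27), (1, 29), (1, 30), (2, 31), (0, 33), (1, 32), (1, 33), (2, 34), (1, 36), (2, 37),
  (1, 39), (1, 40), (1, 30), (1, 31), (2, 28), (1, 30), (2, 31), (1, 33), (1, 34), (1, 35), (1, 36), (1, 37),
  (2, 38), (1, 26), (1, 27), (2, 28), (1, 30), (2, 31), (1, 33), (1, 34), (1, 35), (2, 36), (1, 24), (1, 25),
  (1, 26), (1, 27), (2, 22), (1, 24), (1, 25), (1, 21), (2, 22), (1, 20), (2, 18), (2, 20), (1, 22), (2, 23),
  (2, 25), (2, 27), (1, 29), (1, 30), (1, 31), (1, 32), (1, 33), (1, 34), (1, 35), (1, 28), (1, 29), (1, 26),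
  (1, 27), (1, 24), (1, 25), (1, 16), (1, 17), (1, 18), (1, 15), (1, 14), (2, 15), (1, 17), (2, 18), (1, 20),
  (1, 21), (1, 22), (1, 23), (1, 24), (2, 25), (2, 27), (2, 29), (1, 31), (1, 32), (1, 33), (2, 20), (1, 22),
  (1, 23), (1, 24), (1, 25), (1, 17), (1, 18), (1, 19), (2, 20), (1, 22), (1, 18), (1, 16), (1, 13), (1, 14),
  (1, 15), (2, 16), (2, 18), (1, 20), (1, 21), (2, 22), (1, 24), (2, 25), (1, 27), (1, 28), (2, 29), (1, 31),
  (1, 12), (1, 13), (1, 14), (1, 15), (1, 11), (1, 12), (1, 13), (1, 10), (1, 9), (2, 10), (1, 12), (2, 13),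
  (2, 15), (1, 17), (1, 18), (1, 19), (1, 20), (1, 21), (1, 22), (1, 23), (1, 16), (1, 14), (1, 5), (1, 6),
  (1, 7), (1, 8), (1, 9), (2, 10), (1, 12), (1, 13), (2, 14), (2, 16), (1, 18), (1, 19), (1, 2), (1, 3),
  (1, 4), (1, 5), (2, 6), (2, 0), (1, 2), (1, 3), (2, 4), (1, 6), (2, 7), (1, 9), (1, 10), (1, 11),
  (1, 12), (1, 2)]

def p03R : List (ℕ × ℕ) := [
  (0, 3), (0, 2), (0, 1), (1, 0), (1, 1), (1, 2), (0, 3), (1, 21), (1, 20), (2, 21), (0, 23), (2, 18),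
  (1, 20), (2, 21), (0, 23), (0, 26), (0, 25), (1, 24), (0, 25), (1, 22), (1, 21), (2, 22), (0, 24), (1, 19),
  (1, 20), (1, 18), (1, 19), (2, 20), (1, 22), (0, 23), (1, 18), (1, 19), (1, 20), (2, 21), (0, 23), (1, 18),
  (1, 19), (1, 20), (1, 21), (1, 22), (2, 23), (0, 25), (1, 30), (1, 21), (1, 22), (1, 23), (1, 24), (2, 25),
  (1, 27), (2, 28), (2, 30), (1, 32), (1, 33), (1, 34), (2, 19), (1, 21), (1, 22), (2, 23), (1, 25), (2, 26),
  (1, 28), (1, 29), (2, 30), (1, 32), (2, 16), (1, 18), (1, 19), (1, 20), (1, 21), (1, 22), (1, 23), (1, 24),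
  (1, 17), (1, 15), (1, 14), (2, 15), (2, 17), (1, 19), (1, 20), (1, 13), (1, 12), (2, 13), (1, 15), (1, 16),
  (2, 17), (1, 19), (2, 20), (1, 22), (1, 23), (2, 24), (1, 26), (1, 27), (1, 28), (1, 29), (2, 30), (2, 32),
  (2, 34), (0, 36)]

def p04L : List (ℕ × ℕ) := [
  (0, 8), (0, 7), (1, 4), (1, 5), (0, 6), (0, 5), (1, 3), (0, 4), (1, 0), (1, 1), (1, 2), (0, 3),
  (1, 1), (0, 2), (1, 0), (0, 1), (1, 0), (2, 1), (0, 3), (0, 21), (1, 20), (2, 21), (2, 23), (1, 25),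
  (1, 26), (1, 27), (2, 28), (1, 30), (2, 31), (1, 33), (1, 34), (1, 35), (1, 18), (2, 19), (1, 21), (1, 22),
  (2, 23), (1, 25), (2, 26), (1, 28), (1, 29), (1, 30), (2, 31), (1, 33), (1, 24), (1, 25), (1, 23), (1, 21),
  (1, 18), (1, 19), (1, 20), (2, 21), (2, 23), (2, 25), (1, 27), (1, 28), (1, 29), (1, 20), (1, 21), (1, 17),
  (2, 18), (1, 20), (2, 21), (1, 23), (1, 24), (2, 25), (1, 27), (1, 16), (1, 17), (1, 18), (1, 19), (1, 15),
  (2, 13), (2, 15), (1, 17), (1, 18), (2, 19), (1, 21), (1, 22), (1, 23), (1, 24), (2, 25), (2, 27), (2, 29),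
  (1, 31), (1, 32), (2, 33), (2, 35), (0, 37), (2, 36), (1, 38), (1, 39), (1, 32), (1, 33), (1, 34), (2, 30),
  (1, 32), (1, 33), (2, 34), (1, 36), (1, 37), (1, 38), (1, 32), (1, 33), (1, 34), (2, 35), (1, 37), (1, 28),
  (1, 29), (2, 30), (1, 32), (2, 33), (1, 35), (1, 36), (1, 26), (1, 27), (1, 28), (1, 29), (2, 24), (1, 26),
  (1, 27), (1, 23), (2, 24), (1, 22), (2, 20), (2, 22), (1, 24), (2, 25), (2, 27), (2, 29), (1, 31), (1, 32),
  (1, 33), (1, 34), (1, 35), (1, 30), (1, 31), (1, 28), (1, 29), (1, 26), (1, 27), (1, 18), (1, 19), (1, 20),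
  (1, 17), (1, 16), (2, 17), (1, 19), (2, 20), (1, 22), (1, 23), (1, 24), (1, 25), (1, 26), (2, 27), (2, 29),
  (2, 31), (1, 33), (1, 34), (2, 22), (1, 24), (1, 25), (1, 26), (1, 27), (1, 19), (1, 20), (1, 21), (2, 22),
  (1, 24), (1, 20), (1, 18), (1, 14), (1, 15), (1, 16), (1, 17), (2, 18), (2, 20), (1, 22), (1, 23), (2, 24),
  (1, 26), (2, 27), (1, 29), (1, 30), (2, 31), (1, 33), (1, 29), (1, 12), (1, 13), (1, 14), (1, 15), (1, 16),
  (1, 17), (2, 10), (1, 12), (1, 13), (1, 14), (1, 15), (1, 8), (1, 9), (2, 10), (1, 12), (1, 8), (2, 6),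
  (2, 8), (1, 10), (1, 11), (2, 12), (1, 14), (2, 15), (2, 17), (1, 19), (1, 20), (1, 21), (1, 22), (1, 23),
  (1, 24), (1, 25), (1, 18), (1, 16), (1, 5), (1, 6), (2, 3), (1, 5), (2, 6), (1, 8), (1, 9), (1, 10),
  (1, 11), (2, 12), (1, 14), (1, 15), (2, 16), (2, 18), (1, 20), (1, 21), (1, 15), (1, 16), (1, 2), (1, 3),
  (1, 4), (1, 5), (1, 6), (1, 7), (2, 8), (1, 1)]

def p04R : List (ℕ × ℕ) := [
  (0, 0), (0, 21), (0, 28), (0, 27), (1, 24), (1, 25), (0, 26), (0, 25), (1, 23), (0, 24), (1, 22), (1, 23),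
  (0, 24), (1, 21), (1, 22), (0, 23), (1, 21), (1, 22), (2, 23), (0, 25), (2, 19), (1, 21), (1, 22), (1, 23),
  (1, 24), (1, 25), (1, 26), (1, 18), (2, 19), (1, 21), (1, 22), (1, 16), (1, 17), (1, 18), (2, 19), (1, 21),
  (2, 22), (1, 24), (1, 25), (2, 26), (1, 28), (1, 29), (1, 30), (1, 31), (2, 32), (0, 34)]

def p12L : List (ℕ × ℕ) := [
  (0, 7), (0, 6), (1, 3), (1, 4), (0, 5), (0, 4), (1, 2), (0, 3), (1, 0), (1, 1), (0, 2), (1, 0),
  (0, 1), (1, 0), (1, 1), (2, 2), (0, 4), (1, 20), (0, 21), (1, 17), (1, 18), (1, 19), (1, 20), (0, 21),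
  (1, 19), (1, 20), (2, 17), (2, 15), (1, 17), (2, 18), (2, 20), (0, 22), (2, 20), (0, 22), (2, 16), (1, 18),
  (1, 15), (2, 16), (2, 18), (1, 20), (0, 21), (1, 17), (2, 15), (2, 17), (1, 19), (0, 20), (2, 18), (0, 20),
  (1, 19), (2, 20), (1, 22), (1, 23), (1, 24), (2, 25), (1, 27), (2, 28), (1, 30), (1, 31), (2, 32), (1, 34),
  (2, 35), (1, 37), (1, 38), (1, 39), (1, 40), (1, 30), (1, 16), (1, 17), (2, 18), (1, 20), (1, 21), (1, 22),
  (1, 23), (1, 24), (2, 25), (1, 27), (2, 28), (2, 30), (1, 32), (1, 33), (1, 34), (2, 35), (1, 37), (1, 29),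
  (1, 16), (1, 17), (1, 18), (2, 19), (1, 21), (2, 22), (1, 24), (1, 25), (1, 26), (2, 27), (2, 29), (1, 31),
  (1, 32), (1, 33), (2, 14), (1, 16), (2, 17), (1, 19), (1, 20), (1, 21), (2, 22), (1, 24), (2, 25), (1, 27),
  (1, 28), (2, 29), (1, 31), (1, 13), (2, 11), (2, 13), (1, 15), (1, 16), (1, 17), (1, 18), (1, 19), (1, 20),
  (1, 21), (1, 22), (1, 23), (1, 14), (1, 15), (1, 12), (1, 13), (1, 10), (1, 11), (1, 6), (1, 7), (1, 8),
  (1, 9), (1, 10), (2, 11), (2, 13), (2, 15), (1, 17), (1, 18), (1, 19), (1, 8), (1, 9), (1, 10), (1, 11),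
  (2, 6), (1, 8), (2, 4), (1, 6), (1, 7), (2, 8), (1, 10), (2, 11), (1, 13), (1, 14), (2, 15), (1, 17),
  (1, 3), (1, 4), (1, 5), (1, 6), (1, 7), (1, 8), (1, 9), (1, 2), (2, 0), (2, 2), (1, 4), (1, 5)]

def p12R : List (ℕ × ℕ) := [
  (0, 5), (0, 4), (1, 1), (1, 2), (0, 3), (0, 2), (1, 0), (1, 1), (1, 2), (0, 3), (1, 0), (1, 1),
  (1, 2), (1, 3), (2, 4), (0, 6), (1, 21), (0, 22), (1, 19), (1, 20), (1, 21), (1, 22), (0, 23), (1, 19),
  (2, 20), (1, 18), (2, 16), (2, 18), (1, 20), (2, 21), (0, 23), (0, 23), (2, 19), (1, 21), (1, 18), (2, 19),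
  (2, 21), (0, 23), (1, 20), (2, 18), (2, 20), (0, 22), (0, 21), (2, 16), (1, 18), (1, 19), (0, 20), (1, 31),
  (1, 18), (2, 19), (1, 21), (1, 22), (1, 23), (1, 24), (1, 25), (2, 26), (1, 28), (2, 29), (2, 31), (1, 33),
  (1, 34), (1, 35), (2, 36), (1, 38), (1, 30), (1, 18), (1, 19), (2, 20), (1, 22), (2, 23), (1, 25), (1, 26),
  (1, 27), (2, 28), (2, 30), (1, 32), (1, 33), (1, 34), (1, 17), (2, 18), (1, 20), (1, 21), (1, 22), (2, 23),
  (1, 25), (2, 26), (1, 28), (1, 29), (2, 30), (1, 32), (2, 14), (1, 16), (1, 17), (1, 18), (1, 19), (1, 20),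
  (1, 21), (1, 22), (1, 23), (1, 24), (1, 15), (1, 16), (1, 13), (1, 14), (1, 12), (1, 8), (1, 9), (1, 10),
  (1, 11), (2, 12), (2, 14), (2, 16), (1, 18), (1, 19), (1, 20), (1, 10), (1, 11), (1, 12), (1, 9), (1, 7),
  (1, 8), (2, 9), (1, 11), (2, 12), (1, 14), (1, 15), (2, 16), (1, 18), (1, 5), (1, 6), (1, 7), (1, 8),
  (1, 9), (1, 10), (2, 3), (1, 5), (1, 6), (1, 1), (1, 2), (2, 3), (1, 5), (2, 6), (1, 8), (1, 9),
  (2, 10), (1, 12), (1, 13), (1, 14), (1, 15), (2, 16), (2, 18), (2, 20), (1, 22), (1, 23), (2, 24), (1, 26),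
  (1, 27), (1, 28), (1, 29), (2, 30), (2, 32), (2, 34), (1, 36), (1, 37), (2, 38), (0, 40)]

def p13L : List (ℕ × ℕ) := [
  (0, 7), (0, 6), (1, 3), (1, 4), (0, 5), (0, 4), (1, 2), (0, 3), (1, 0), (1, 1), (0, 2), (1, 0),
  (0, 1), (1, 0), (1, 1), (2, 2), (0, 4), (1, 20), (0, 21), (1, 20), (2, 18), (2, 20), (0, 22), (2, 20),
  (0, 22), (2, 18), (1, 20), (0, 21), (1, 20), (2, 21), (1, 23), (2, 24), (1, 26), (1, 27), (1, 28), (2, 19),
  (1, 21), (1, 22), (1, 23), (2, 24), (1, 26), (1, 17), (1, 16), (2, 17), (1, 19), (1, 20), (1, 21), (1, 22),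
  (1, 23), (2, 24), (2, 26), (2, 28), (0, 30), (1, 29), (2, 30), (1, 32), (1, 33), (2, 34), (1, 36), (2, 37),
  (1, 39), (1, 40), (1, 27), (1, 28), (1, 29), (2, 30), (2, 32), (1, 34), (1, 35), (1, 36), (2, 37), (1, 25),
  (1, 26), (1, 27), (1, 28), (1, 29), (2, 23), (1, 25), (1, 26), (1, 27), (1, 22), (2, 23), (1, 25), (1, 20),
  (1, 21), (1, 19), (1, 18), (2, 19), (2, 21), (1, 23), (1, 24), (2, 25), (2, 27), (2, 29), (1, 31), (1, 32),
  (1, 33), (1, 34), (1, 35), (1, 36), (1, 30), (1, 28), (1, 18), (1, 19), (1, 20), (1, 21), (2, 22), (1, 16),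
  (1, 15), (2, 16), (1, 18), (1, 19), (2, 20), (1, 22), (2, 23), (1, 25), (1, 26), (1, 27), (2, 28), (2, 30),
  (1, 32), (1, 33), (1, 34), (1, 25), (1, 26), (1, 18), (1, 14), (1, 15), (2, 16), (2, 18), (1, 20), (1, 21),
  (1, 22), (2, 23), (1, 25), (2, 26), (1, 28), (1, 29), (2, 30), (1, 32), (1, 13), (1, 14), (1, 15), (1, 12),
  (1, 13), (1, 11), (1, 10), (2, 11), (2, 13), (2, 15), (1, 17), (1, 18), (1, 19), (1, 20), (1, 21), (1, 22),
  (1, 23), (1, 24), (2, 19), (1, 21), (1, 22), (1, 23), (1, 18), (2, 19), (1, 21), (1, 22), (1, 17), (1, 18),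
  (2, 19), (1, 21), (1, 16), (1, 17), (1, 14), (1, 15), (1, 12), (1, 13), (1, 6), (1, 7), (1, 8), (1, 9),
  (1, 10), (1, 11), (1, 12), (2, 13), (2, 15), (2, 17), (1, 19), (1, 20), (1, 3), (1, 4), (1, 5), (1, 6),
  (2, 7), (2, 1), (1, 3), (1, 4), (2, 5), (1, 7), (2, 8), (1, 10), (1, 11), (1, 12), (1, 13), (1, 0),
  (2, 1), (2, 3), (1, 5), (1, 6), (1, 7), (2, 8), (1, 10), (1, 2)]

def p13R : List (ℕ × ℕ) := [
  (0, 3), (0, 2), (0, 1), (1, 0), (1, 1), (1, 2), (0, 3), (1, 21), (0, 22), (1, 20), (2, 18), (2, 20),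
  (0, 22), (0, 25), (0, 24), (1, 23), (0, 24), (1, 21), (1, 20), (2, 21), (0, 23), (1, 19), (1, 18), (2, 19),
  (1, 21), (0, 22), (1, 18), (1, 19), (1, 20), (1, 21), (1, 22), (1, 23), (2, 24), (0, 26), (1, 31), (2, 20),
  (1, 22), (1, 23), (1, 24), (1, 25), (2, 26), (1, 28), (2, 29), (2, 31), (1, 33), (1, 34), (1, 35), (1, 19),
  (2, 20), (1, 22), (1, 23), (2, 24), (1, 26), (2, 27), (1, 29), (1, 30), (2, 31), (1, 33), (2, 16), (1, 18),
  (1, 19), (1, 20), (1, 21), (1, 22), (1, 23), (1, 24), (1, 25), (1, 17), (1, 18), (1, 15), (1, 16), (1, 14),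
  (1, 10), (1, 11), (1, 12), (1, 13), (2, 14), (2, 16), (2, 18), (1, 20), (1, 21), (1, 12), (1, 13), (1, 14),
  (1, 11), (1, 9), (1, 10), (2, 11), (1, 13), (2, 14), (1, 16), (1, 17), (2, 18), (1, 20), (2, 21), (1, 23),
  (1, 24), (2, 25), (1, 27), (1, 28), (1, 29), (1, 30), (2, 31), (2, 33), (2, 35), (0, 37)]

def p14L : List (ℕ × ℕ) := [
  (0, 7), (0, 6), (1, 3), (1, 4), (0, 5), (0, 4), (1, 2), (0, 3), (1, 0), (1, 1), (0, 2), (1, 0),
  (0, 1), (1, 0), (1, 1), (2, 2), (0, 4), (0, 21), (1, 19), (2, 20), (1, 22), (1, 23), (2, 24), (1, 26),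
  (2, 27), (1, 29), (1, 30), (1, 31), (2, 32), (1, 34), (1, 25), (1, 26), (1, 24), (1, 22), (1, 19), (1, 20),
  (1, 21), (2, 22), (2, 24), (2, 26), (1, 28), (1, 29), (1, 30), (1, 21), (1, 22), (1, 18), (2, 19), (1, 21),
  (2, 22), (1, 24), (1, 25), (2, 26), (1, 28), (1, 17), (1, 18), (1, 19), (1, 20), (1, 16), (2, 14), (2, 16),
  (1, 18), (1, 19), (2, 20), (1, 22), (1, 23), (1, 24), (1, 25), (2, 26), (2, 28), (2, 30), (1, 32), (1, 33),
  (2, 34), (0, 36), (1, 33), (1, 34), (1, 35), (2, 31), (1, 33), (1, 34), (2, 35), (1, 37), (1, 38), (1, 39),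
  (1, 33), (1, 34), (1, 35), (2, 36), (1, 38), (1, 29), (1, 30), (2, 31), (1, 33), (2, 34), (1, 36), (1, 37),
  (1, 27), (1, 28), (1, 29), (1, 30), (2, 25), (1, 27), (1, 28), (1, 24), (2, 25), (1, 23), (2, 21), (2, 23),
  (1, 25), (2, 26), (2, 28), (2, 30), (1, 32), (1, 33), (1, 34), (1, 35), (1, 36), (1, 31), (1, 32), (1, 29),
  (1, 30), (1, 27), (1, 28), (1, 19), (1, 20), (1, 21), (1, 18), (1, 17), (2, 18), (1, 20), (2, 21), (1, 23),
  (1, 24), (1, 25), (1, 26), (1, 27), (2, 28), (2, 30), (2, 32), (1, 34), (1, 35), (2, 23), (1, 25), (1, 26),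
  (1, 27), (1, 28), (1, 20), (1, 21), (1, 22), (2, 23), (1, 25), (1, 21), (1, 19), (1, 15), (1, 16), (1, 17),
  (1, 18), (2, 19), (2, 21), (1, 23), (1, 24), (2, 25), (1, 27), (2, 28), (1, 30), (1, 31), (2, 32), (1, 34),
  (1, 30), (1, 13), (1, 14), (1, 15), (1, 16), (1, 17), (1, 18), (2, 11), (1, 13), (1, 14), (1, 15), (1, 16),
  (1, 9), (1, 10), (2, 11), (1, 13), (1, 9), (2, 7), (2, 9), (1, 11), (1, 12), (2, 13), (1, 15), (2, 16),
  (2, 18), (1, 20), (1, 21), (1, 22), (1, 23), (1, 24), (1, 25), (1, 26), (1, 19), (1, 17), (1, 6), (1, 7),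
  (2, 4), (1, 6), (2, 7), (1, 9), (1, 10), (1, 11), (1, 12), (2, 13), (1, 15), (1, 16), (2, 17), (2, 19),
  (1, 21), (1, 22), (1, 3), (1, 4), (1, 5), (1, 6), (1, 7), (1, 8), (2, 9), (1, 2), (2, 0), (2, 2),
  (1, 4), (1, 5), (1, 6), (2, 7), (1, 9), (2, 10), (1, 12), (1, 13), (1, 14), (1, 15)]

def p14R : List (ℕ × ℕ) := [
  (0, 0), (0, 21), (0, 27), (0, 26), (1, 23), (1, 24), (0, 25), (0, 24), (1, 22), (0, 23), (1, 21), (1, 22),
  (0, 23), (1, 21), (1, 22), (1, 23), (2, 24), (0, 26), (2, 19), (1, 21), (1, 22), (1, 23), (1, 24), (1, 25),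
  (1, 26), (1, 27), (1, 20), (1, 18), (1, 17), (2, 18), (2, 20), (1, 22), (1, 23), (1, 16), (1, 15), (2, 16),
  (1, 18), (1, 19), (2, 20), (1, 22), (2, 23), (1, 25), (1, 26), (2, 27), (1, 29), (1, 30), (1, 31), (1, 32),
  (2, 33), (0, 35)]

def p23L : List (ℕ × ℕ) := [
  (0, 5), (0, 4), (1, 1), (1, 2), (0, 3), (0, 2), (1, 0), (1, 1), (1, 2), (0, 3), (1, 0), (1, 1),
  (1, 2), (1, 3), (2, 4), (0, 6), (0, 21), (0, 20), (0, 21), (0, 20), (1, 19), (1, 18), (2, 19), (1, 21),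
  (1, 22), (1, 23), (1, 24), (1, 25), (2, 26), (0, 28), (1, 27), (1, 28), (1, 29), (1, 30), (1, 31), (2, 25),
  (1, 27), (1, 28), (1, 29), (1, 24), (2, 25), (1, 27), (1, 22), (1, 23), (1, 21), (1, 20), (2, 21), (2, 23),
  (1, 25), (1, 26), (2, 27), (2, 29), (2, 31), (1, 33), (1, 34), (1, 35), (1, 36), (1, 37), (1, 38), (1, 32),
  (1, 30), (1, 20), (1, 21), (1, 22), (1, 23), (2, 24), (1, 18), (1, 17), (2, 18), (1, 20), (1, 21), (2, 22),
  (1, 24), (2, 25), (1, 27), (1, 28), (1, 29), (2, 30), (2, 32), (1, 34), (1, 35), (1, 36), (1, 27), (1, 28),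
  (1, 20), (1, 16), (1, 17), (2, 18), (2, 20), (1, 22), (1, 23), (1, 24), (2, 25), (1, 27), (2, 28), (1, 30),
  (1, 31), (2, 32), (1, 34), (1, 15), (1, 16), (1, 17), (1, 14), (1, 15), (1, 13), (1, 12), (2, 13), (2, 15),
  (2, 17), (1, 19), (1, 20), (1, 21), (1, 22), (1, 23), (1, 24), (1, 25), (1, 26), (2, 21), (1, 23), (1, 24),
  (1, 25), (1, 20), (2, 21), (1, 23), (1, 24), (1, 19), (1, 20), (2, 21), (1, 23), (1, 18), (1, 19), (1, 16),
  (1, 17), (1, 14), (1, 15), (1, 8), (1, 9), (1, 10), (1, 11), (1, 12), (1, 13), (1, 14), (2, 15), (2, 17),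
  (2, 19), (1, 21), (1, 22), (1, 5), (1, 6), (1, 7), (1, 8), (2, 9), (2, 3), (1, 5), (1, 6), (2, 7),
  (1, 9), (2, 10), (1, 12), (1, 13), (1, 14), (1, 15), (1, 2), (2, 3), (2, 5), (1, 7), (1, 8), (1, 9),
  (2, 10), (1, 12), (1, 4), (1, 1), (2, 2), (2, 4), (1, 6), (1, 7), (1, 8), (2, 0), (1, 2), (1, 3),
  (2, 4), (1, 6)]

def p23R : List (ℕ × ℕ) := [
  (0, 3), (0, 2), (0, 1), (1, 0), (1, 1), (1, 2), (0, 3), (0, 21), (0, 20), (0, 23), (0, 22), (1, 21),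
  (0, 22), (1, 20), (1, 21), (1, 22), (1, 23), (1, 24), (1, 25), (2, 26), (0, 28), (1, 33), (2, 19), (1, 21),
  (2, 22), (1, 24), (1, 25), (1, 26), (1, 27), (2, 28), (1, 30), (2, 31), (2, 33), (1, 35), (1, 36), (1, 37),
  (1, 18), (2, 19), (1, 21), (2, 22), (1, 24), (1, 25), (2, 26), (1, 28), (2, 29), (1, 31), (1, 32), (2, 33),
  (1, 35), (1, 17), (1, 18), (1, 16), (2, 14), (2, 16), (2, 18), (1, 20), (1, 21), (1, 22), (1, 23), (1, 24),
  (1, 25), (1, 26), (1, 27), (1, 19), (1, 20), (1, 17), (1, 18), (1, 15), (1, 16), (1, 10), (1, 11), (1, 12),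
  (1, 13), (1, 14), (1, 15), (2, 16), (2, 18), (2, 20), (1, 22), (1, 23), (2, 11), (1, 13), (1, 14), (1, 15),
  (1, 16), (1, 10), (2, 11), (1, 13), (1, 9), (2, 7), (2, 9), (1, 11), (1, 12), (2, 13), (1, 15), (2, 16),
  (1, 18), (1, 19), (2, 20), (1, 22), (2, 23), (1, 25), (1, 26), (2, 27), (1, 29), (1, 30), (1, 31), (1, 32),
  (2, 33), (2, 35), (2, 37), (0, 39)]

def p24L : List (ℕ × ℕ) := [
  (0, 5), (0, 4), (1, 1), (1, 2), (0, 3), (0, 2), (1, 0), (1, 1), (1, 2), (0, 3), (1, 0), (1, 1),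
  (1, 2), (1, 3), (2, 4), (0, 6), (0, 22), (1, 26), (1, 27), (1, 25), (1, 23), (1, 21), (1, 22), (2, 23),
  (2, 25), (2, 27), (1, 29), (1, 30), (1, 31), (1, 22), (1, 23), (2, 20), (1, 22), (2, 23), (1, 25), (1, 26),
  (2, 27), (1, 29), (1, 19), (1, 20), (1, 21), (2, 17), (1, 19), (1, 20), (2, 21), (1, 23), (1, 24), (1, 25),
  (1, 26), (2, 27), (2, 29), (2, 31), (1, 33), (1, 34), (0, 35), (1, 34), (1, 35), (2, 32), (1, 34), (2, 35),
  (1, 37), (1, 38), (1, 39), (1, 40), (1, 30), (1, 31), (2, 32), (1, 34), (2, 35), (1, 37), (1, 38), (1, 39),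
  (1, 28), (1, 29), (1, 30), (1, 31), (2, 26), (1, 28), (1, 29), (1, 25), (2, 26), (1, 24), (2, 22), (2, 24),
  (1, 26), (2, 27), (2, 29), (2, 31), (1, 33), (1, 34), (1, 35), (1, 36), (1, 37), (1, 38), (1, 32), (1, 33),
  (1, 30), (1, 31), (1, 28), (1, 29), (1, 20), (1, 21), (1, 22), (1, 19), (1, 18), (2, 19), (1, 21), (2, 22),
  (1, 24), (1, 25), (1, 26), (1, 27), (1, 28), (2, 29), (2, 31), (2, 33), (1, 35), (1, 36), (1, 37), (2, 24),
  (1, 26), (1, 27), (1, 28), (1, 29), (1, 21), (1, 22), (1, 23), (2, 24), (1, 26), (1, 22), (1, 20), (1, 16),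
  (1, 17), (1, 18), (1, 19), (2, 20), (2, 22), (1, 24), (1, 25), (2, 26), (1, 28), (2, 29), (1, 31), (1, 32),
  (2, 33), (1, 35), (1, 31), (1, 15), (1, 16), (1, 17), (1, 18), (1, 19), (1, 14), (1, 15), (1, 16), (1, 17),
  (1, 11), (2, 12), (1, 14), (2, 10), (1, 12), (1, 13), (2, 14), (1, 16), (2, 17), (2, 19), (1, 21), (1, 22),
  (1, 23), (1, 24), (1, 25), (1, 26), (1, 27), (1, 20), (1, 18), (1, 8), (1, 7), (2, 8), (1, 10), (1, 11),
  (1, 12), (1, 13), (2, 14), (1, 16), (1, 17), (2, 18), (2, 20), (1, 22), (1, 23), (1, 5), (1, 6), (1, 7),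
  (1, 8), (1, 9), (2, 10), (2, 3), (1, 5), (1, 6), (1, 7), (2, 8), (1, 10), (2, 11), (1, 13), (1, 14),
  (1, 15), (1, 16), (1, 1), (1, 2), (2, 3), (1, 5), (2, 6), (1, 8), (1, 9), (1, 10), (2, 11), (1, 13)]

def p24R : List (ℕ × ℕ) := [
  (0, 0), (0, 27), (0, 26), (1, 23), (1, 24), (0, 25), (0, 24), (1, 22), (1, 23), (1, 24), (0, 25), (1, 22),
  (1, 23), (1, 24), (1, 25), (2, 26), (0, 28), (2, 21), (2, 23), (1, 25), (1, 26), (2, 27), (1, 29), (2, 30),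
  (1, 32), (1, 33), (2, 34), (1, 36), (1, 20), (2, 18), (2, 20), (1, 22), (1, 23), (1, 24), (1, 25), (1, 26),
  (1, 27), (1, 28), (1, 21), (1, 19), (1, 17), (1, 18), (2, 19), (2, 21), (1, 23), (1, 24), (1, 16), (1, 17),
  (2, 14), (1, 16), (2, 17), (1, 19), (1, 20), (2, 21), (1, 23), (2, 24), (1, 26), (1, 27), (2, 28), (1, 30),
  (1, 31), (1, 32), (1, 33), (2, 34), (2, 36), (0, 38)]

def p34L : List (ℕ × ℕ) := [
  (0, 3), (0, 2), (0, 1), (1, 0), (1, 1), (1, 2), (0, 3), (0, 22), (1, 21), (2, 19), (2, 21), (1, 23),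
  (1, 24), (1, 25), (0, 26), (1, 33), (1, 34), (1, 35), (1, 32), (1, 25), (1, 22), (2, 23), (2, 25), (1, 27),
  (1, 28), (1, 29), (2, 30), (2, 32), (1, 34), (2, 35), (1, 37), (1, 38), (1, 39), (1, 40), (1, 20), (2, 21),
  (1, 23), (1, 24), (2, 25), (1, 27), (2, 28), (1, 30), (1, 31), (2, 32), (1, 34), (2, 35), (1, 37), (1, 38),
  (1, 39), (1, 30), (1, 23), (1, 18), (1, 19), (1, 20), (2, 21), (2, 23), (1, 25), (1, 26), (1, 27), (2, 28),
  (2, 30), (1, 32), (1, 33), (1, 34), (2, 35), (1, 37), (1, 32), (1, 31), (1, 30), (1, 17), (1, 18), (1, 19),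
  (1, 20), (1, 16), (1, 17), (1, 18), (2, 14), (1, 16), (2, 12), (1, 14), (1, 15), (2, 16), (2, 18), (2, 20),
  (1, 22), (1, 23), (1, 24), (1, 25), (1, 26), (1, 27), (1, 28), (1, 29), (1, 21), (1, 19), (1, 10), (1, 11),
  (1, 12), (2, 13), (1, 9), (1, 10), (2, 11), (1, 13), (2, 14), (1, 16), (1, 17), (1, 18), (2, 19), (2, 21),
  (1, 23), (1, 24), (1, 25), (1, 16), (1, 17), (1, 9), (2, 7), (2, 9), (1, 11), (1, 12), (1, 13), (2, 14),
  (1, 16), (2, 17), (1, 19), (1, 20), (2, 21), (1, 23), (1, 6), (2, 4), (2, 6), (1, 8), (1, 9), (1, 10),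
  (1, 11), (1, 12), (1, 13), (1, 14), (1, 15), (1, 7), (1, 5), (1, 2), (1, 3), (1, 4), (2, 5), (2, 7),
  (1, 9), (1, 10), (1, 11), (1, 2), (1, 3), (2, 0), (1, 2), (2, 3), (1, 5), (1, 6), (2, 7), (1, 9),
  (1, 2), (1, 3), (1, 4), (1, 1)]

def p34R : List (ℕ × ℕ) := [
  (0, 0), (0, 25), (0, 24), (0, 23), (1, 22), (1, 23), (1, 24), (0, 25), (1, 21), (2, 22), (2, 24), (1, 26),
  (1, 27), (1, 28), (2, 29), (1, 31), (2, 32), (1, 34), (1, 35), (2, 36), (1, 38), (1, 20), (1, 21), (1, 19),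
  (1, 16), (2, 17), (2, 19), (2, 21), (1, 23), (1, 24), (1, 25), (1, 26), (1, 27), (1, 28), (1, 29), (1, 30),
  (1, 22), (1, 20), (2, 15), (1, 17), (1, 18), (1, 19), (2, 20), (2, 22), (1, 24), (1, 25), (1, 26), (1, 17),
  (1, 18), (1, 14), (2, 15), (1, 17), (2, 18), (1, 20), (1, 21), (2, 22), (1, 24), (2, 8), (1, 10), (1, 11),
  (1, 12), (1, 13), (1, 14), (1, 15), (1, 16), (1, 7), (2, 8), (1, 10), (1, 11), (1, 12), (1, 6), (1, 7),
  (2, 8), (1, 10), (1, 5), (1, 6), (1, 7), (2, 8), (2, 10), (2, 12), (1, 14), (1, 15), (2, 16), (1, 18),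
  (1, 19), (1, 20), (1, 21), (2, 22), (2, 24), (2, 26), (1, 28), (1, 29), (2, 30), (1, 32), (1, 33), (1, 34),
  (1, 35), (2, 36), (2, 38), (0, 40)]

def rot2u : List ℕ := [0, 1, 2, 3, 4, 5, 7]

def rot2g : List ℕ := [0, 1, 0, 2, 1, 0, 3, 2, 1, 0, 4, 7, 3, 2, 1, 0]

def rot2m : List (ℕ × ℕ) := [
  (1, 6), (1, 5), (1, 4), (1, 3), (1, 2), (1, 7), (1, 6), (1, 5), (1, 4), (1, 8), (1, 7), (1, 6),
  (1, 5), (1, 9), (1, 8), (1, 7), (1, 10), (1, 9), (1, 8), (1, 11), (1, 10), (1, 9), (1, 11), (1, 12),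
  (1, 13), (1, 14), (1, 15), (1, 17), (1, 16)]

def rot3u : List ℕ := [1, 2, 3, 4, 5, 6, 7]

def rot3g : List ℕ := [1, 2, 1, 3, 2, 1, 4, 5, 7, 3, 2, 1, 4, 7, 3, 2, 1]

def rot3m : List (ℕ × ℕ) := [
  (1, 6), (1, 5), (1, 4), (1, 3), (1, 2), (1, 7), (1, 6), (1, 5), (1, 4), (1, 8), (1, 7), (1, 6),
  (1, 5), (1, 8), (1, 9), (1, 10), (1, 11), (1, 12), (1, 14), (1, 13), (1, 15), (1, 14), (1, 16), (1, 15),
  (1, 17), (1, 16), (1, 19), (1, 18), (1, 17)]

/-- Words carrying `g` to five transpositions that form a hexad with `a`. -/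
def hexad : List (List ℕ) := [[],
  [5, 6, 2, 3, 4, 5],
  [4, 5, 6, 3, 4, 5],
  [7, 8, 0, 1, 2, 3, 4, 7, 0, 1, 2, 3, 4, 7, 0, 1, 2, 3, 4, 7, 0, 1, 2, 3, 4, 7, 0, 1, 2, 3, 4, 7, 3, 7, 8, 5, 4, 3, 7, 2, 3, 4, 5],
  [7, 8, 0, 1, 2, 3, 4, 7, 0, 1, 2, 3, 4, 7, 0, 1, 2, 3, 4, 7, 0, 1, 2, 3, 4, 7, 0, 1, 2, 3, 4, 7, 4, 2, 3, 7, 8, 5, 4, 3, 7, 2, 3, 4, 5]]

/-- Words carrying `(a, g)` to the pairs of commuting generators. -/
def pairs : List (ℕ × ℕ × List ℕ) := [(0, 2, [3, 2, 4, 3, 5, 4, 6, 5]),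
  (0, 3, [4, 3, 5, 4, 6, 5]),
  (0, 4, [5, 4, 6, 5]),
  (0, 5, [6, 5]),
  (0, 6, []),
  (0, 7, [3, 7, 4, 3, 5, 4, 6, 5]),
  (0, 8, [7, 8, 3, 7, 4, 3, 5, 4, 6, 5]),
  (1, 3, [4, 3, 5, 4, 6, 5, 0, 1]),
  (1, 4, [5, 4, 6, 5, 0, 1]),
  (1, 5, [6, 5, 0, 1]),
  (1, 6, [0, 1]),
  (1, 7, [3, 7, 4, 3, 5, 4, 6, 5, 0, 1]),
  (1, 8, [7, 8, 3, 7, 4, 3, 5, 4, 6, 5, 0, 1]),
  (2, 4, [5, 4, 6, 5, 1, 2, 0, 1]),
  (2, 5, [6, 5, 1, 2, 0, 1]),
  (2, 6, [1, 2, 0, 1]),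
  (2, 7, [1, 2, 3, 7, 4, 3, 5, 4, 6, 5, 0, 1]),
  (2, 8, [1, 2, 7, 8, 3, 7, 4, 3, 5, 4, 6, 5, 0, 1]),
  (3, 5, [6, 5, 2, 3, 1, 2, 0, 1]),
  (3, 6, [2, 3, 1, 2, 0, 1]),
  (8, 3, [4, 3, 5, 4, 6, 5, 7, 8, 3, 7, 2, 3, 1, 2, 0, 1]),
  (4, 6, [3, 4, 2, 3, 1, 2, 0, 1]),
  (7, 4, [5, 4, 6, 5, 3, 7, 2, 3, 1, 2, 0, 1]),
  (8, 4, [5, 4, 6, 5, 7, 8, 3, 7, 2, 3, 1, 2, 0, 1]),
  (7, 5, [6, 5, 3, 7, 2, 3, 1, 2, 0, 1]),
  (8, 5, [6, 5, 7, 8, 3, 7, 2, 3, 1, 2, 0, 1]),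
  (7, 6, [3, 7, 2, 3, 1, 2, 0, 1]),
  (8, 6, [7, 8, 3, 7, 2, 3, 1, 2, 0, 1])]

end Cfsg.Agent.Fi22Mult94.Data
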