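import Cfsg.Agent.Fi22Mult94.Mat
import Cfsg.Agent.Fi22Mult94.Data
import Cfsg.Agent.SporB.Fi22.Main
import Cfsg.Agent.Lib.CosetEnum.Glue
import Mathlib.GroupTheory.Abelianization.Defs

/-!
# The triple cover of Fi22 in 27 dimensions over the four-element field
-/

set_option autoImplicit false
set_option maxRecDepth 100000

namespace Cfsg.Agent.Fi22Mult94

open Cfsg.Agent.CosetEnum

/-- The presented group. -/
abbrev G : Type := Fi22.pres.Gp

/-- The value of a word. -/
abbrev V (W : List ℕ) : G := evalWord Fi22.pres.val W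

/-- The packed matrix of a letter. -/
def gR (l : ℕ) : List ℕ := Data.gens.getD l (idR 54)

/-- The packed matrix of a word. -/
noncomputable def evR : List ℕ → List ℕ
  | [] => idR 54
  | l :: W => mulR (gR l) (evR W)

theorem gR_ok : ∀ l, (gR l).length = 54 ∧ mulR (gR l) (gR l) = idR 54 ∧
    mulR (gR l) Data.omR = mulR Data.omR (gR l) := by
  have h : (List.range 10).all (fun l => decide ((gR l).length = 54) && (mulR (gR l) (gR l) == idR 54)
      && (mulR (gR l) Data.omR == mulR Data.omR (gR l))) = true := by decide +kernel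
  intro l
  have key : ∀ k < 10, (gR k).length = 54 ∧ mulR (gR k) (gR k) = idR 54 ∧
      mulR (gR k) Data.omR = mulR Data.omR (gR k) := fun k hk => by
    have := List.all_eq_true.mp h k (List.mem_range.mpr hk)
    simp only [Bool.and_eq_true, decide_eq_true_eq, beq_iff_eq] at this
    exact ⟨this.1.1, this.1.2, this.2⟩
  rcases Nat.lt_or_ge l 10 with hl | hl
  · exact key l hl
  · have e : gR l = gR 9 := by
      unfold gR
      rw [List.getD_eq_default _ _ (by show 9 ≤ l; omega), List.getD_eq_default _ _ (by decide)]
    rw [e]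
    exact key 9 (by omega)

theorem evR_length : ∀ W, (evR W).length = 54
  | [] => by simp [evR, idR]
  | l :: W => by rw [evR, length_mulR, (gR_ok l).1]

theorem omR_length : Data.omR.length = 54 := by decide +kernel

theorem omR_cube : mulR Data.omR (mulR Data.omR Data.omR) = idR 54 := by decide +kernel

/-- Invertible matrices of size 54. -/
abbrev M54 : Type := (Matrix (Fin 54) (Fin 54) (ZMod 2))ˣ

/-- A letter as an invertible matrix. -/
noncomputable def U (l : ℕ) : M54 :=
  ⟨toM 54 (gR l), toM 54 (gR l),
    by rw [← toM_mulR (gR_ok l).1 (gR_ok l).1, (gR_ok l).2.1, toM_idR],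
    by rw [← toM_mulR (gR_ok l).1 (gR_ok l).1, (gR_ok l).2.1, toM_idR]⟩

/-- The scalar of order three. -/
noncomputable def Om : M54 :=
  ⟨toM 54 Data.omR, toM 54 (mulR Data.omR Data.omR),
    by rw [← toM_mulR omR_length (by rw [length_mulR, omR_length]), omR_cube, toM_idR],
    by
      rw [← toM_mulR (by rw [length_mulR, omR_length]) omR_length, ← toM_idR 54]
      congr 1⟩

theorem Om_val : Om.val = toM 54 Data.omR := rfl

theorem U_val (l : ℕ) : (U l).val = toM 54 (gR l) := rfl

theorem val_eval : ∀ W : List ℕ, ((evalWord U W : M54) : Matrix _ _ (ZMod 2)) = toM 54 (evR W)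
  | [] => by rw [evR, toM_idR]; rfl
  | l :: W => by
    show (U l).val * (evalWord U W).val = _
    rw [val_eval W, evR, toM_mulR (gR_ok l).1 (evR_length W)]
    rfl

theorem Om_comm (l : ℕ) : Commute Om (U l) := by
  apply Units.ext
  show toM 54 Data.omR * toM 54 (gR l) = toM 54 (gR l) * toM 54 Data.omR
  rw [← toM_mulR omR_length (gR_ok l).1, ← toM_mulR (gR_ok l).1 omR_length, (gR_ok l).2.2]

/-- The scalars among which relators may land. -/
noncomputable def scal : List (List ℕ) := [idR 54, Data.omR, mulR Data.omR Data.omR]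

theorem eval_scal {W : List ℕ} (h : scal.contains (evR W) = true) :
    evalWord U W ∈ Subgroup.zpowers Om := by
  simp only [List.contains_iff_mem, scal, List.mem_cons, List.not_mem_nil, or_false] at h
  rcases h with h | h | h
  · have : evalWord U W = 1 := Units.ext (by rw [val_eval, h, toM_idR]; rfl)
    rw [this]; exact one_mem _
  · have : evalWord U W = Om := Units.ext (by rw [val_eval, h]; rfl)
    rw [this]; exact Subgroup.mem_zpowers _
  · have : evalWord U W = Om * Om :=
      Units.ext (by rw [val_eval, h, toM_mulR omR_length omR_length]; rfl)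
    rw [this]; exact mul_mem (Subgroup.mem_zpowers _) (Subgroup.mem_zpowers _)

/-- The matrix group. -/
def T : Subgroup M54 := Subgroup.closure (U '' Set.Iio 9)

theorem U_mem (l : ℕ) : U l ∈ T := by
  rcases Nat.lt_or_ge l 9 with h | h
  · exact Subgroup.subset_closure ⟨l, h, rfl⟩
  · have : U l = 1 := Units.ext (by
      show toM 54 (gR l) = 1
      rw [gR, List.getD_eq_default _ _ (by show 9 ≤ l; exact h), toM_idR])
    rw [this]; exact one_mem _

/-- A letter in the matrix group. -/
noncomputable def uT (l : ℕ) : T := ⟨U l, U_mem l⟩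

theorem coe_evalT (W : List ℕ) : ((evalWord uT W : T) : M54) = evalWord U W :=
  Glue.evalWord_hom T.subtype uT W

/-- The first relator is the scalar squared, so the scalar lies in the group. -/
theorem Om_mem : Om ∈ T := by
  have h : (evalWord U (repWord [3, 2, 1, 3, 4, 5, 3, 7, 8] 10) : M54) = Om * Om :=
    Units.ext (by
      rw [val_eval, (by decide +kernel : evR (repWord [3, 2, 1, 3, 4, 5, 3, 7, 8] 10) =
        mulR Data.omR Data.omR), toM_mulR omR_length omR_length]
      rfl)
  have h3 : Om = (Om * Om) * (Om * Om) := by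
    have e : Om * (Om * Om) = 1 := Units.ext (by
      show toM 54 Data.omR * (toM 54 Data.omR * toM 54 Data.omR) = 1
      rw [← toM_mulR omR_length omR_length, ← toM_mulR omR_length (by rw [length_mulR, omR_length]),
        omR_cube, toM_idR])
    rw [show Om * Om * (Om * Om) = Om * (Om * (Om * Om)) by group, e, mul_one]
  have hm : evalWord U (repWord [3, 2, 1, 3, 4, 5, 3, 7, 8] 10) ∈ T := by
    rw [← coe_evalT]; exact SetLike.coe_mem _
  rw [h3, ← h]
  exact mul_mem hm hm

/-- The scalar in the group. -/
noncomputable def omT : T := ⟨Om, Om_mem⟩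

theorem omT_central : omT ∈ Subgroup.center T := by
  rw [Subgroup.mem_center_iff]
  intro g
  apply Subtype.ext
  have key : (T : Set M54) ⊆ {x | Commute Om x} := by
    intro x hx
    induction hx using Subgroup.closure_induction with
    | mem y hy => obtain ⟨l, -, rfl⟩ := hy; exact Om_comm l
    | one => exact Commute.one_right _
    | mul a b _ _ ha hb => exact Commute.mul_right ha hb
    | inv a _ ha => exact Commute.inv_right ha
  exact (key g.2).eq.symm

/-- The scalars. -/
noncomputable def Zs : Subgroup T := Subgroup.zpowers omT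

theorem Zs_le : Zs ≤ Subgroup.center T := by
  rw [Zs, Subgroup.zpowers_le]; exact omT_central

instance : Zs.Normal :=
  ⟨fun n hn g => by rw [Subgroup.mem_center_iff.mp (Zs_le hn) g, mul_inv_cancel_right]; exact hn⟩

theorem mem_Zs {W : List ℕ} (h : scal.contains (evR W) = true) : evalWord uT W ∈ Zs := by
  obtain ⟨k, hk⟩ := Subgroup.mem_zpowers_iff.mp (eval_scal h)
  refine Subgroup.mem_zpowers_iff.mpr ⟨k, Subtype.ext ?_⟩
  rw [SubgroupClass.coe_zpow, coe_evalT]
  exact hk

theorem rels_ok : Fi22.pres.relWords.all (fun W => scal.contains (evR W)) = true := by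
  decide +kernel

/-- The images of the generators. -/
noncomputable def vq (x : Cfsg.Spor.Fi22.Gen) : T ⧸ Zs :=
  QuotientGroup.mk (uT (Fi22.pres.gens.idxOf x))

theorem vq_letter {l : ℕ} : letterVal Fi22.pres.gens vq l = QuotientGroup.mk (uT l) := by
  rcases Nat.lt_or_ge l 9 with h | h
  · rw [letterVal_of_lt _ _ (show l < Fi22.pres.gens.length from h), vq,
      List.Nodup.idxOf_getElem Fi22.nodup]
  · rw [letterVal, List.getElem?_eq_none (show Fi22.pres.gens.length ≤ l from h)]
    have : uT l = 1 := Subtype.ext (Units.ext (by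
      show toM 54 (gR l) = 1
      rw [gR, List.getD_eq_default _ _ (by show 9 ≤ l; exact h), toM_idR]))
    rw [this]; rfl

theorem vq_word (W : List ℕ) :
    evalWord (letterVal Fi22.pres.gens vq) W = QuotientGroup.mk' Zs (evalWord uT W) := by
  rw [show letterVal Fi22.pres.gens vq = fun l => QuotientGroup.mk' Zs (uT l) from
    funext fun l => vq_letter, Glue.evalWord_hom (QuotientGroup.mk' Zs) uT W]

/-- The presented group acts projectively. -/
noncomputable def psi : G →* T ⧸ Zs :=
  PresentedGroup.toGroup (Fi22.pres.kills vq fun W hW => by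
    rw [vq_word, QuotientGroup.mk'_apply, QuotientGroup.eq_one_iff]
    exact mem_Zs (List.all_eq_true.mp rels_ok W hW))

theorem psi_val (l : ℕ) : psi (Fi22.pres.val l) = QuotientGroup.mk (uT l) := by
  rcases Nat.lt_or_ge l 9 with h | h
  · rw [InvPres.val, letterVal_of_lt _ _ (show l < Fi22.pres.gens.length from h), psi,
      PresentedGroup.toGroup.of, ← letterVal_of_lt Fi22.pres.gens vq
        (show l < Fi22.pres.gens.length from h), vq_letter]
  · rw [← vq_letter, InvPres.val, letterVal, letterVal,
      List.getElem?_eq_none (show Fi22.pres.gens.length ≤ l from h)]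
    exact map_one _

theorem psi_V (W : List ℕ) : psi (V W) = QuotientGroup.mk' Zs (evalWord uT W) := by
  rw [Glue.evalWord_hom psi, Glue.evalWord_hom (QuotientGroup.mk' Zs)]
  congr 1
  funext l
  exact psi_val l

theorem psi_surjective : Function.Surjective psi := by
  intro q
  obtain ⟨⟨x, hx⟩, rfl⟩ := QuotientGroup.mk_surjective q
  induction hx using Subgroup.closure_induction with
  | mem y hy =>
    obtain ⟨l, -, rfl⟩ := hy
    exact ⟨Fi22.pres.val l, psi_val l⟩
  | one => exact ⟨1, map_one _⟩
  | mul a b ha hb iha ihb =>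
    obtain ⟨p, hp⟩ := iha
    obtain ⟨q, hq⟩ := ihb
    exact ⟨p * q, by rw [map_mul, hp, hq]; rfl⟩
  | inv a ha iha =>
    obtain ⟨p, hp⟩ := iha
    exact ⟨p⁻¹, by rw [map_inv, hp]; rfl⟩

/-- A word that is no scalar. -/
theorem psi_ne : psi (Fi22.pres.val 0) ≠ 1 := by
  intro h
  rw [psi_val, QuotientGroup.eq_one_iff] at h
  have h2 : U 0 ∈ Subgroup.zpowers Om := by
    obtain ⟨k, hk⟩ := Subgroup.mem_zpowers_iff.mp h
    exact Subgroup.mem_zpowers_iff.mpr ⟨k, by
      have := congrArg (fun t : T => (t : M54)) hk
      simp only [SubgroupClass.coe_zpow] at this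
      exact this⟩
  have ho : Om ^ 3 = 1 := Units.ext (by
    rw [pow_succ, pow_two, Units.val_mul, Units.val_mul]
    show toM 54 Data.omR * toM 54 Data.omR * toM 54 Data.omR = 1
    rw [mul_assoc, ← toM_mulR omR_length omR_length,
      ← toM_mulR omR_length (by rw [length_mulR, omR_length]), omR_cube, toM_idR])
  have hU : U 0 * U 0 = 1 := Units.ext (U 0).val_inv
  obtain ⟨k, hk⟩ := Subgroup.mem_zpowers_iff.mp h2
  have e3 : U 0 * (U 0 * U 0) = 1 := by
    rw [← hk, ← zpow_add, ← zpow_add, show k + (k + k) = ((3 : ℕ) : ℤ) * k by push_cast; ring,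
      zpow_mul, zpow_natCast, ho, one_zpow]
  rw [hU, mul_one] at e3
  have e4 := congrArg Units.val e3
  have e5 : ∀ i j : Fin 54, bitZ ((gR 0).getD i 0) j = bitZ ((idR 54).getD i 0) j := fun i j => by
    have := congrFun (congrFun (e4.trans (toM_idR 54).symm) i) j
    simpa [U, toM] using this
  have hne : (List.range 54).any (fun i => (List.range 54).any fun j =>
      ((gR 0).getD i 0).testBit j != ((idR 54).getD i 0).testBit j) = true := by decide +kernel
  simp only [List.any_eq_true, List.mem_range, bne_iff_ne] at hne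
  obtain ⟨i, hi, j, hj, hb⟩ := hne
  have := e5 ⟨i, hi⟩ ⟨j, hj⟩
  simp only [bitZ] at this
  revert this hb
  cases ((gR 0).getD i 0).testBit j <;> cases ((idR 54).getD i 0).testBit j <;> simp

theorem psi_injective : Function.Injective psi := by
  haveI := Fi22.simple
  rcases (inferInstance : psi.ker.Normal).eq_bot_or_eq_top with h | h
  · exact (MonoidHom.ker_eq_bot_iff _).mp h
  · exact absurd (MonoidHom.mem_ker.mp (h ▸ Subgroup.mem_top (Fi22.pres.val 0))) psi_ne

/-- The covering map. -/
noncomputable def sigma : T →* G :=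
  (MulEquiv.ofBijective psi ⟨psi_injective, psi_surjective⟩).symm.toMonoidHom.comp
    (QuotientGroup.mk' Zs)

theorem psi_sigma (t : T) : psi (sigma t) = QuotientGroup.mk' Zs t :=
  (MulEquiv.ofBijective psi ⟨psi_injective, psi_surjective⟩).apply_symm_apply _

theorem sigma_surjective : Function.Surjective sigma :=
  (MulEquiv.ofBijective psi ⟨psi_injective, psi_surjective⟩).symm.surjective.comp
    QuotientGroup.mk_surjective

theorem sigma_ker : sigma.ker = Zs := by
  ext t
  rw [MonoidHom.mem_ker, ← psi_injective.eq_iff, psi_sigma, map_one, QuotientGroup.mk'_apply,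
    QuotientGroup.eq_one_iff]

/-- Words equal up to a scalar have the same value. -/
noncomputable def sameB (A B : List ℕ) : Bool :=
  evR A == evR B || evR A == mulR Data.omR (evR B) || evR A == mulR (mulR Data.omR Data.omR) (evR B)

theorem word_eq {A B : List ℕ} (h : sameB A B = true) : V A = V B := by
  have key : evalWord U A * (evalWord U B)⁻¹ ∈ Subgroup.zpowers Om := by
    simp only [sameB, Bool.or_eq_true, beq_iff_eq] at h
    have hlen : (mulR Data.omR Data.omR).length = 54 := by rw [length_mulR, omR_length]
    rcases h with (h | h) | h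
    · have e : evalWord U A = evalWord U B := Units.ext (by rw [val_eval, val_eval, h])
      rw [e, mul_inv_cancel]; exact one_mem _
    · have e : evalWord U A = Om * evalWord U B := Units.ext (by
        rw [Units.val_mul, val_eval, val_eval, Om_val, h, toM_mulR omR_length (evR_length B)])
      rw [e, mul_inv_cancel_right]; exact Subgroup.mem_zpowers _
    · have e : evalWord U A = (Om * Om) * evalWord U B := Units.ext (by
        rw [Units.val_mul, Units.val_mul, val_eval, val_eval, Om_val, h,
          toM_mulR hlen (evR_length B), toM_mulR omR_length omR_length])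
      rw [e, mul_inv_cancel_right]
      exact mul_mem (Subgroup.mem_zpowers _) (Subgroup.mem_zpowers _)
  obtain ⟨k, hk⟩ := Subgroup.mem_zpowers_iff.mp key
  have hT : evalWord uT A * (evalWord uT B)⁻¹ ∈ Zs :=
    Subgroup.mem_zpowers_iff.mpr ⟨k, Subtype.ext (by
      rw [SubgroupClass.coe_zpow, Subgroup.coe_mul, Subgroup.coe_inv, coe_evalT, coe_evalT]
      exact hk)⟩
  apply psi_injective
  rw [psi_V, psi_V, QuotientGroup.mk'_apply, QuotientGroup.mk'_apply, ← mul_inv_eq_one,
    ← QuotientGroup.mk_inv, ← QuotientGroup.mk_mul]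
  exact (QuotientGroup.eq_one_iff _).mpr hT

end Cfsg.Agent.Fi22Mult94
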