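import Cfsg.Agent.Fi22Mult94.Moves
import Cfsg.Agent.Fi22Mult94.Cover
import Cfsg.Prelude.Def_KGroupFacts

/-!
# Lifts of the Fi22 generators to a central extension

The lifts can be chosen braided along the diagram; then commuting generators have commuting
lifts, because a transposition lies in a hexad.
-/

set_option autoImplicit false
set_option maxRecDepth 100000

namespace Cfsg.Agent.Fi22Mult94

open Cfsg.Agent.CosetEnum

variable {E : Type} [Group E] (σ : E →* G) (hσ : Function.Surjective σ)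
  (hc : σ.ker ≤ Subgroup.center E)

include hc in
theorem ker_comm {k : E} (hk : σ k = 1) (z : E) : Commute k z :=
  (Subgroup.mem_center_iff.mp (hc hk) z).symm

theorem evalWord_single {A : Type} [Group A] (f : ℕ → A) (x : ℕ) : evalWord f [x] = f x := mul_one _

theorem gen_sq (x : ℕ) : Fi22.pres.val x * Fi22.pres.val x = 1 := by
  rw [InvPres.val, letterVal]
  cases Fi22.pres.gens[x]? with
  | none => exact one_mul _
  | some g => exact Fi22.pres.sq_val g

/-- A lift of each letter. -/
structure Lift (L : ℕ → E) : Prop where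
  lift : ∀ x, σ (L x) = Fi22.pres.val x
  braid : ∀ x y, adjB x y = true → L x * (L y * L x) = L y * (L x * L y)

/-- Adjust the second lift so that the braid relation holds. -/
def fixy (x y : E) : E := y * ((x * (y * x)) * (y * (x * y))⁻¹)

include hc in
theorem fixy_spec {x y : E} {i j : ℕ} (hx : σ x = Fi22.pres.val i) (hy : σ y = Fi22.pres.val j)
    (h : sameB [i, j, i] [j, i, j] = true) :
    σ (fixy x y) = Fi22.pres.val j ∧
      x * (fixy x y * x) = fixy x y * (x * fixy x y) := by
  set k := (x * (y * x)) * (y * (x * y))⁻¹ with hk_def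
  have hk : σ k = 1 := by
    have e : σ (x * (y * x)) = σ (y * (x * y)) := by
      have := word_eq h
      simp only [V, evalWord, mul_one] at this
      rw [map_mul, map_mul, map_mul, map_mul, hx, hy]
      exact this
    rw [hk_def, map_mul, map_inv, e, mul_inv_cancel]
  have kc := ker_comm σ hc hk
  have hxyx : x * (y * x) = k * (y * (x * y)) := by rw [hk_def, inv_mul_cancel_right]
  refine ⟨by rw [fixy, map_mul, ← hk_def, hk, mul_one, hy], ?_⟩
  show x * (y * k * x) = y * k * (x * (y * k))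
  calc x * (y * k * x) = x * (y * x) * k := by rw [mul_assoc y, (kc x).eq]; simp only [mul_assoc]
    _ = k * (y * (x * y)) * k := by rw [hxyx]
    _ = y * (k * (x * (y * k))) := by
        rw [← mul_assoc k y, (kc y).eq]; simp only [mul_assoc]
    _ = y * k * (x * (y * k)) := (mul_assoc y k _).symm

include hσ hc in
theorem exists_lift : ∃ L : ℕ → E, Lift σ L := by
  choose p hp using hσ
  let P := fun l => p (Fi22.pres.val l)
  have f := fun {x y : E} {i j : ℕ} (hx : σ x = Fi22.pres.val i) (hy : σ y = Fi22.pres.val j) h =>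
    fixy_spec σ hc hx hy (i := i) (j := j) h
  have h3 : σ (P 3) = Fi22.pres.val 3 := hp _
  have c := f h3 (hp (Fi22.pres.val 2)) (by decide +kernel)
  have e := f h3 (hp (Fi22.pres.val 4)) (by decide +kernel)
  have h := f h3 (hp (Fi22.pres.val 7)) (by decide +kernel)
  have b := f c.1 (hp (Fi22.pres.val 1)) (by decide +kernel)
  have ff := f e.1 (hp (Fi22.pres.val 5)) (by decide +kernel)
  have ii := f h.1 (hp (Fi22.pres.val 8)) (by decide +kernel)
  have a := f b.1 (hp (Fi22.pres.val 0)) (by decide +kernel)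
  have g := f ff.1 (hp (Fi22.pres.val 6)) (by decide +kernel)
  let c' := fixy (P 3) (P 2)
  let b' := fixy c' (P 1)
  let e' := fixy (P 3) (P 4)
  let f' := fixy e' (P 5)
  let h' := fixy (P 3) (P 7)
  let L : ℕ → E := fun l => match l with
    | 0 => fixy b' (P 0)
    | 1 => b'
    | 2 => c'
    | 3 => P 3
    | 4 => e'
    | 5 => f'
    | 6 => fixy f' (P 6)
    | 7 => h'
    | 8 => fixy h' (P 8)
    | _ => 1
  refine ⟨L, ⟨fun x => ?_, fun x y hxy => ?_⟩⟩
  · match x with
    | 0 => exact a.1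
    | 1 => exact b.1
    | 2 => exact c.1
    | 3 => exact h3
    | 4 => exact e.1
    | 5 => exact ff.1
    | 6 => exact g.1
    | 7 => exact h.1
    | 8 => exact ii.1
    | n + 9 =>
      show σ 1 = _
      rw [map_one, InvPres.val, letterVal,
        List.getElem?_eq_none (show Fi22.pres.gens.length ≤ n + 9 from Nat.le_add_left 9 n)]
  · simp only [adjB, List.contains_iff_mem, List.mem_cons, List.not_mem_nil, or_false,
      Prod.mk.injEq] at hxy
    rcases hxy with ⟨rfl, rfl⟩ | ⟨rfl, rfl⟩ | ⟨rfl, rfl⟩ | ⟨rfl, rfl⟩ | ⟨rfl, rfl⟩ | ⟨rfl, rfl⟩ |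
      ⟨rfl, rfl⟩ | ⟨rfl, rfl⟩ | ⟨rfl, rfl⟩ | ⟨rfl, rfl⟩ | ⟨rfl, rfl⟩ | ⟨rfl, rfl⟩ | ⟨rfl, rfl⟩ |
      ⟨rfl, rfl⟩ | ⟨rfl, rfl⟩ | ⟨rfl, rfl⟩
    exacts [a.2.symm, b.2.symm, c.2.symm, e.2, h.2, ff.2, g.2, ii.2,
      a.2, b.2, c.2, e.2.symm, h.2.symm, ff.2.symm, g.2.symm, ii.2.symm]

variable {σ}

theorem Lift.map_word {L : ℕ → E} (hL : Lift σ L) (W : List ℕ) : σ (evalWord L W) = V W := by
  rw [Glue.evalWord_hom σ]
  congr 1
  funext l
  exact hL.lift l

/-- The value of a square. -/
def sqv (L : ℕ → E) : E := L 3 * L 3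

include hc in
theorem Lift.sq_ker {L : ℕ → E} (hL : Lift σ L) : σ (sqv L) = 1 := by
  rw [sqv, map_mul, hL.lift]; exact gen_sq 3

include hc in
theorem Lift.sq_edge {L : ℕ → E} (hL : Lift σ L) {x y : ℕ} (h : adjB x y = true)
    (hx : L x * L x = sqv L) : L y * L y = sqv L := by
  have hs := ker_comm σ hc (hL.sq_ker hc)
  have e : L y = (L x * L y) * L x * (L x * L y)⁻¹ := by
    rw [eq_mul_inv_iff_mul_eq, mul_assoc (L x), hL.braid x y h]
  rw [e, show (L x * L y) * L x * (L x * L y)⁻¹ * ((L x * L y) * L x * (L x * L y)⁻¹) =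
    (L x * L y) * (L x * L x) * (L x * L y)⁻¹ by group, hx, ← (hs (L x * L y)).eq]
  group

include hc in
theorem Lift.sq {L : ℕ → E} (hL : Lift σ L) : ∀ x, x < 9 → L x * L x = sqv L := by
  have e2 := hL.sq_edge hc (x := 3) (y := 2) (by decide) rfl
  have e4 := hL.sq_edge hc (x := 3) (y := 4) (by decide) rfl
  have e7 := hL.sq_edge hc (x := 3) (y := 7) (by decide) rfl
  have e1 := hL.sq_edge hc (x := 2) (y := 1) (by decide) e2
  have e5 := hL.sq_edge hc (x := 4) (y := 5) (by decide) e4
  have e8 := hL.sq_edge hc (x := 7) (y := 8) (by decide) e7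
  have e0 := hL.sq_edge hc (x := 1) (y := 0) (by decide) e1
  have e6 := hL.sq_edge hc (x := 5) (y := 6) (by decide) e5
  intro x hx
  interval_cases x
  exacts [e0, e1, e2, rfl, e4, e5, e6, e7, e8]

variable (σ)

/-- Lifts of the two elements commute up to `c`. -/
def Cm (u v : G) (c : E) : Prop := ∀ x y : E, σ x = u → σ y = v → x * y = c * (y * x)

include hσ hc in
theorem exists_cm {u v : G} (h : Commute u v) : ∃ c, σ c = 1 ∧ Cm σ u v c := by
  obtain ⟨x₀, hx₀⟩ := hσ u
  obtain ⟨y₀, hy₀⟩ := hσ v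
  refine ⟨x₀ * y₀ * (y₀ * x₀)⁻¹, ?_, fun x y hx hy => ?_⟩
  · rw [map_mul, map_inv, map_mul, map_mul, hx₀, hy₀, h.eq, mul_inv_cancel]
  · obtain ⟨i, hi, rfl⟩ : ∃ i, σ i = 1 ∧ x₀ * i = x :=
      ⟨x₀⁻¹ * x, by rw [map_mul, map_inv, hx₀, hx, inv_mul_cancel], mul_inv_cancel_left _ _⟩
    obtain ⟨j, hj, rfl⟩ : ∃ j, σ j = 1 ∧ y₀ * j = y :=
      ⟨y₀⁻¹ * y, by rw [map_mul, map_inv, hy₀, hy, inv_mul_cancel], mul_inv_cancel_left _ _⟩
    rw [(ker_comm σ hc hi y₀).mul_mul_mul_comm x₀ j, (ker_comm σ hc hj x₀).mul_mul_mul_comm y₀ i,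
      (ker_comm σ hc hi j).eq, ← mul_assoc (x₀ * y₀ * (y₀ * x₀)⁻¹), inv_mul_cancel_right]

include hσ hc in
theorem Cm.conj {u v : G} {c : E} (h : Cm σ u v c) (hk : σ c = 1) (w : G) :
    Cm σ (w * u * w⁻¹) (w * v * w⁻¹) c := by
  intro x y hx hy
  obtain ⟨t, ht⟩ := hσ w
  have h' := h (t⁻¹ * x * t) (t⁻¹ * y * t)
    (by rw [map_mul, map_mul, map_inv, hx, ht]; group)
    (by rw [map_mul, map_mul, map_inv, hy, ht]; group)
  calc x * y = t * (t⁻¹ * x * t * (t⁻¹ * y * t)) * t⁻¹ := by group
    _ = t * c * (t⁻¹ * y * t * (t⁻¹ * x * t)) * t⁻¹ := by rw [h']; group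
    _ = c * (y * x) := by rw [← (ker_comm σ hc hk t).eq]; group

theorem pair_commute : sameB [0, 6] [6, 0] = true := by decide +kernel

theorem hexad_ok : Data.hexad.all (fun P =>
    sameB (P ++ [0] ++ P.reverse) [0] && P.all (fun l => Nat.blt l 9)) = true := by decide +kernel

theorem hexad_prod :
    sameB ([0] ++ Data.hexad.flatMap (fun P => P ++ [6] ++ P.reverse)) [] = true := by decide +kernel

theorem pairs_ok : Data.pairs.all (fun q =>
    sameB (q.2.2 ++ [0] ++ q.2.2.reverse) [q.1] && sameB (q.2.2 ++ [6] ++ q.2.2.reverse) [q.2.1]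
      && q.2.2.all (fun l => Nat.blt l 9)) = true := by decide +kernel

theorem pairs_cover : (List.range 9).all (fun x => (List.range 9).all fun y =>
    !commB x y || Data.pairs.any (fun q => q.1 == x && q.2.1 == y) ||
      Data.pairs.any (fun q => q.1 == y && q.2.1 == x)) = true := by decide +kernel

theorem V_conj {P : List ℕ} (hP : P.all (fun l => Nat.blt l 9) = true) (x : ℕ) :
    V (P ++ [x] ++ P.reverse) = V P * Fi22.pres.val x * (V P)⁻¹ := by
  rw [V, evalWord_append, evalWord_append, evalWord_single,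
    eval_reverse (fun l _ => gen_sq l) hP]

include hσ hc in
/-- Lifts of two commuting generators commute. -/
theorem Lift.comm {L : ℕ → E} (hL : Lift σ L) (x y : ℕ) (hxy : commB x y = true) :
    L x * L y = L y * L x := by
  have hcomm : Commute (Fi22.pres.val 0) (Fi22.pres.val 6) := by
    have := word_eq pair_commute
    simp only [V, evalWord, mul_one] at this
    exact this
  obtain ⟨c, hk, hC⟩ := exists_cm σ hσ hc hcomm
  have kc := ker_comm σ hc hk
  have hsq : c * c = 1 := by
    have h1 := hC (L 0) (L 6) (hL.lift 0) (hL.lift 6)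
    have hs := ker_comm σ hc (hL.sq_ker hc) (L 6)
    rw [← hL.sq hc 0 (by omega)] at hs
    have h2 : L 0 * L 0 * L 6 = c * c * (L 6 * (L 0 * L 0)) := by
      calc L 0 * L 0 * L 6 = L 0 * (L 0 * L 6) := mul_assoc _ _ _
        _ = L 0 * c * (L 6 * L 0) := by rw [h1]; group
        _ = c * (L 0 * L 6) * L 0 := by rw [← (kc (L 0)).eq]; group
        _ = c * c * (L 6 * (L 0 * L 0)) := by rw [h1]; group
    rw [hs.eq] at h2
    exact mul_eq_right.mp h2.symm
  have h5 : c ^ 5 = 1 := by
    let W := fun P : List ℕ => P ++ [6] ++ P.reverse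
    have hj : ∀ P ∈ Data.hexad, L 0 * evalWord L (W P) = c * (evalWord L (W P) * L 0) := by
      intro P hP
      have h := List.all_eq_true.mp hexad_ok P hP
      rw [Bool.and_eq_true] at h
      have hC' := hC.conj σ hσ hc hk (V P)
      have e0 : V P * Fi22.pres.val 0 * (V P)⁻¹ = Fi22.pres.val 0 := by
        rw [← V_conj h.2, word_eq h.1, V, evalWord_single]
      rw [e0, ← V_conj h.2] at hC'
      exact hC' _ _ (hL.lift 0) (hL.map_word _)
    have hl : ∀ l : List (List ℕ), (∀ P ∈ l, P ∈ Data.hexad) →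
        L 0 * evalWord L (l.flatMap W) = c ^ l.length * (evalWord L (l.flatMap W) * L 0) := by
      intro l
      induction l with
      | nil => intro _; simp [evalWord]
      | cons P l ih =>
        intro h
        have ih' := ih fun Q hQ => h Q (List.mem_cons_of_mem _ hQ)
        rw [List.flatMap_cons, evalWord_append, List.length_cons, pow_succ']
        calc L 0 * (evalWord L (W P) * evalWord L (l.flatMap W))
            = c * evalWord L (W P) * (L 0 * evalWord L (l.flatMap W)) := by
              rw [← mul_assoc, hj P (h P List.mem_cons_self)]; group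
          _ = c * (evalWord L (W P) * c ^ l.length) * (evalWord L (l.flatMap W) * L 0) := by
              rw [ih']; group
          _ = _ := by rw [← ((kc (evalWord L (W P))).pow_left l.length).eq]; group
    have h := hl Data.hexad (fun P hP => hP)
    have hker : σ (L 0 * evalWord L (Data.hexad.flatMap W)) = 1 := by
      have e := word_eq hexad_prod
      rw [V, evalWord_append, evalWord_single] at e
      rw [map_mul, hL.lift, hL.map_word]
      exact e
    have hcm : evalWord L (Data.hexad.flatMap W) * L 0 = L 0 * evalWord L (Data.hexad.flatMap W) := by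
      refine mul_left_cancel (a := L 0) ?_
      rw [← mul_assoc, (ker_comm σ hc hker (L 0)).eq]
    rw [hcm, show Data.hexad.length = 5 from rfl] at h
    exact mul_eq_right.mp h.symm
  have hc1 : c = 1 := by
    calc c = c * (c * c) * (c * c) := by rw [hsq, mul_one, mul_one]
      _ = c ^ 5 := by simp only [pow_succ, pow_zero, one_mul, mul_assoc]
      _ = 1 := h5
  subst hc1
  have key : ∀ q ∈ Data.pairs, L q.1 * L q.2.1 = L q.2.1 * L q.1 := by
    intro q hq
    have h := List.all_eq_true.mp pairs_ok q hq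
    simp only [Bool.and_eq_true] at h
    obtain ⟨⟨h0, h6⟩, hP⟩ := h
    have hC' := hC.conj σ hσ hc hk (V q.2.2)
    rw [← V_conj hP, ← V_conj hP, word_eq h0, word_eq h6] at hC'
    simp only [V, evalWord_single] at hC'
    have := hC' _ _ (hL.lift q.1) (hL.lift q.2.1)
    rwa [one_mul] at this
  have hb : Nat.blt x 9 = true ∧ Nat.blt y 9 = true := by
    simp only [commB, Bool.and_eq_true] at hxy
    exact ⟨hxy.1.1.1, hxy.1.1.2⟩
  have hcov := List.all_eq_true.mp (List.all_eq_true.mp pairs_cover x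
    (List.mem_range.mpr (Nat.le_of_ble_eq_true hb.1))) y (List.mem_range.mpr (Nat.le_of_ble_eq_true hb.2))
  simp only [hxy, Bool.not_true, Bool.false_or, Bool.or_eq_true, List.any_eq_true, beq_iff_eq,
    Bool.and_eq_true] at hcov
  rcases hcov with ⟨q, hq, rfl, rfl⟩ | ⟨q, hq, rfl, rfl⟩
  · exact key q hq
  · exact (key q hq).symm

end Cfsg.Agent.Fi22Mult94
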