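import Cfsg.Agent.Fi22Mult94.Bound
import Cfsg.Agent.SporB.Fi23.Cover

/-!
# The Schur multiplier of Fi22 has order six

The extension of order six is the fibre product of the double cover inside Fi23 and the triple
cover in 27 dimensions.
-/

set_option autoImplicit false
set_option maxRecDepth 100000
set_option maxHeartbeats 400000

namespace Cfsg.Agent.Fi22Mult94

open Cfsg.Agent.CosetEnum
open scoped commutatorElement

/-- The double cover. -/
abbrev H2 : Type := Fi23.H

/-- The double covering map. -/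
noncomputable def cov2 : H2 →* G := Fi23.cov

theorem cov2_surjective : Function.Surjective cov2 := Fi23.cov_surjective

/-- The central involution. -/
noncomputable def z2 : H2 := ⟨Fi23.z, Fi23.z_mem⟩

theorem z2_sq_and_ne : z2 * z2 = 1 ∧ z2 ≠ 1 := by
  have hne : z2 ≠ 1 := fun h => Fi23.z_ne_one (congrArg Subtype.val h)
  refine ⟨?_, hne⟩
  rcases Fi23.ker_cases (g := z2 * z2) (by
    rw [map_mul, show Fi23.cov z2 = 1 from Fi23.cov_z, one_mul]) with h | h
  · exact Subtype.ext h
  · exact absurd (mul_eq_left.mp (Subtype.ext h : z2 * z2 = z2)) hne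

theorem cov2_ker {h : H2} (hh : cov2 h = 1) : h = 1 ∨ h = z2 :=
  (Fi23.ker_cases hh).imp (fun e => Subtype.ext e) (fun e => Subtype.ext e)

theorem z2_central (h : H2) : Commute z2 h := by
  have e : cov2 (h * z2 * h⁻¹) = 1 := by
    rw [map_mul, map_mul, map_inv, show cov2 z2 = 1 from Fi23.cov_z, mul_one, mul_inv_cancel]
  rcases cov2_ker e with h1 | h1
  · exact absurd (by simpa using h1 : z2 = 1) z2_sq_and_ne.2
  · exact (mul_inv_eq_iff_eq_mul.mp h1).symm

theorem omT_cube : omT ^ 3 = 1 := by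
  apply Subtype.ext
  rw [SubgroupClass.coe_pow, OneMemClass.coe_one]
  show Om ^ 3 = 1
  apply Units.ext
  rw [Units.val_one]
  rw [pow_succ, pow_two, Units.val_mul, Units.val_mul, Om_val, mul_assoc,
    ← toM_mulR omR_length omR_length, ← toM_mulR omR_length (by rw [length_mulR, omR_length]),
    omR_cube, toM_idR]

theorem omT_ne : omT ≠ 1 := by
  intro h
  have h' : Om.val = 1 := congrArg (fun t : T => (t : M54).val) h
  have h2 := congrFun (congrFun (h'.trans (toM_idR 54).symm) ⟨0, by omega⟩) ⟨0, by omega⟩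
  have h3 : bitZ (Data.omR.getD 0 0) 0 = 0 ∧ bitZ ((idR 54).getD 0 0) 0 = 1 := by
    refine ⟨?_, ?_⟩ <;> decide +kernel
  have h4 : bitZ (Data.omR.getD 0 0) 0 = bitZ ((idR 54).getD 0 0) 0 := h2
  rw [h3.1, h3.2] at h4
  exact zero_ne_one h4

theorem T_perfect : commutator T = ⊤ := by
  have key : ∀ (B : Type) [CommGroup B] (f : T →* B), f = 1 := by
    intro B _ f
    have hw : ∀ W : List ℕ, evR W = idR 54 → evalWord (fun l => f (uT l)) W = 1 := by
      intro W hW
      rw [← Glue.evalWord_hom f uT W]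
      have : evalWord uT W = 1 := Subtype.ext (Units.ext (by rw [coe_evalT, val_eval, hW, toM_idR]; rfl))
      rw [this, map_one]
    have hsq : ∀ i, f (uT i) * f (uT i) = 1 := fun i => by
      rw [← map_mul, show uT i * uT i = 1 from Subtype.ext (Units.ext (U i).val_inv), map_one]
    have hedge : ∀ i j, evR [i, j, i, j, i, j] = idR 54 → f (uT i) = f (uT j) := by
      intro i j h
      have h' := hw _ h
      simp only [evalWord, mul_one] at h'
      have h3 : f (uT i) * f (uT j) = 1 := by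
        calc f (uT i) * f (uT j)
            = (f (uT i) * f (uT i)) * (f (uT j) * f (uT j)) * (f (uT i) * f (uT j)) := by
              rw [hsq, hsq, one_mul, one_mul]
          _ = f (uT i) * (f (uT j) * (f (uT i) * (f (uT j) * (f (uT i) * f (uT j))))) := by ac_rfl
          _ = 1 := h'
      exact (eq_inv_of_mul_eq_one_left h3).trans (inv_eq_of_mul_eq_one_right (hsq j))
    have e1 := hedge 0 1 (by decide +kernel)
    have e2 := hedge 1 2 (by decide +kernel)
    have e3 := hedge 2 3 (by decide +kernel)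
    have e4 := hedge 3 4 (by decide +kernel)
    have e5 := hedge 4 5 (by decide +kernel)
    have e6 := hedge 5 6 (by decide +kernel)
    have e7 := hedge 3 7 (by decide +kernel)
    have e8 := hedge 7 8 (by decide +kernel)
    have h0 : f (uT 0) = 1 := by
      have h := hw (repWord [0, 1, 2, 3, 4, 5, 7] 9) (by decide +kernel)
      rw [evalWord_repWord] at h
      simp only [evalWord, mul_one, ← e7, ← e5, ← e4, ← e3, ← e2, ← e1] at h
      simpa [hsq 0, pow_succ, mul_assoc] using h
    have hall : ∀ l, l < 9 → f (uT l) = 1 := by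
      intro l hl
      interval_cases l <;> simp only [← e8, ← e7, ← e6, ← e5, ← e4, ← e3, ← e2, ← e1, h0]
    refine MonoidHom.eq_of_eqOn_dense (s := ((↑) : T → M54) ⁻¹' (U '' Set.Iio 9))
      Subgroup.closure_closure_coe_preimage ?_
    rintro g ⟨l, hl, hlg⟩
    have hg : g = uT l := Subtype.ext hlg.symm
    subst hg
    exact hall l hl
  rw [← Abelianization.ker_of, key _ Abelianization.of, MonoidHom.ker_one]

/-- The extension of order six. -/
noncomputable def Cov6 : Subgroup (H2 × T) :=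
  (cov2.comp (MonoidHom.fst H2 T)).eqLocus (sigma.comp (MonoidHom.snd H2 T))

theorem mem_Cov6 {p : H2 × T} : p ∈ Cov6 ↔ cov2 p.1 = sigma p.2 := Iff.rfl

/-- The covering map of order six. -/
noncomputable def cov6 : Cov6 →* G := (cov2.comp (MonoidHom.fst H2 T)).comp Cov6.subtype

theorem cov6_ker {p : Cov6} (h : cov6 p = 1) :
    cov2 (p : H2 × T).1 = 1 ∧ (p : H2 × T).2 ∈ Zs :=
  ⟨h, by rw [← sigma_ker, MonoidHom.mem_ker, ← mem_Cov6.mp p.2]; exact h⟩

/-- The generator of the kernel. -/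
noncomputable def gen6 : Cov6 := ⟨(z2, omT), by
  rw [mem_Cov6, show cov2 z2 = 1 from Fi23.cov_z, eq_comm, ← MonoidHom.mem_ker, sigma_ker]
  exact Subgroup.mem_zpowers _⟩

theorem gen6_spec : gen6 ∈ cov6.ker := Fi23.cov_z

theorem ker_zpowers : cov6.ker = Subgroup.zpowers gen6 := by
  refine le_antisymm (fun p hp => ?_) (Subgroup.zpowers_le.mpr gen6_spec)
  obtain ⟨h1, h2⟩ := cov6_ker hp
  obtain ⟨k, hk⟩ := Subgroup.mem_zpowers_iff.mp h2
  have z2z : ∀ m : ℤ, z2 ^ (2 * m) = 1 := fun m => by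
    rw [zpow_mul, zpow_two, z2_sq_and_ne.1, one_zpow]
  have o3 : ∀ m : ℤ, omT ^ (3 * m) = 1 := fun m => by
    rw [zpow_mul, show (3 : ℤ) = ((3 : ℕ) : ℤ) from rfl, zpow_natCast, omT_cube, one_zpow]
  rcases cov2_ker h1 with e | e
  · refine Subgroup.mem_zpowers_iff.mpr ⟨4 * k, Subtype.ext (Prod.ext ?_ ?_)⟩
    · show z2 ^ (4 * k) = _
      rw [e, show (4 : ℤ) * k = 2 * (2 * k) by ring, z2z]
    · show omT ^ (4 * k) = _
      rw [← hk, show (4 : ℤ) * k = 3 * k + k by ring, zpow_add, o3, one_mul]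
  · refine Subgroup.mem_zpowers_iff.mpr ⟨4 * k + 3, Subtype.ext (Prod.ext ?_ ?_)⟩
    · show z2 ^ (4 * k + 3) = _
      rw [e, show (4 : ℤ) * k + 3 = 2 * (2 * k + 1) + 1 by ring, zpow_add, z2z, one_mul, zpow_one]
    · show omT ^ (4 * k + 3) = _
      rw [← hk, show (4 : ℤ) * k + 3 = 3 * (k + 1) + k by ring, zpow_add, o3, one_mul]

theorem gen6_order : orderOf gen6 = 6 := by
  have h : orderOf ((gen6 : H2 × T)) = 6 := by
    rw [show (gen6 : H2 × T) = (z2, omT) from rfl, Prod.orderOf,
      orderOf_eq_prime (p := 2) (by rw [pow_two]; exact z2_sq_and_ne.1) z2_sq_and_ne.2,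
      orderOf_eq_prime (p := 3) omT_cube omT_ne]
    rfl
  rwa [Subgroup.orderOf_coe] at h

theorem cov6_stem : Cfsg.IsStemExtension cov6 := by
  refine ⟨fun g => ?_, ?_, ?_⟩
  · obtain ⟨h, hh⟩ := cov2_surjective g
    obtain ⟨t, ht⟩ := sigma_surjective g
    exact ⟨⟨(h, t), hh.trans ht.symm⟩, hh⟩
  · rw [ker_zpowers, Subgroup.zpowers_le, Subgroup.mem_center_iff]
    exact fun p => Subtype.ext (Prod.ext ((z2_central _).eq.symm)
      (Subgroup.mem_center_iff.mp omT_central _))
  · let f1 : Cov6 →* H2 := (MonoidHom.fst H2 T).comp Cov6.subtype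
    let f2 : Cov6 →* T := (MonoidHom.snd H2 T).comp Cov6.subtype
    have s1 : Function.Surjective f1 := fun h => by
      obtain ⟨t, ht⟩ := sigma_surjective (cov2 h)
      exact ⟨⟨(h, t), ht.symm⟩, rfl⟩
    have s2 : Function.Surjective f2 := fun t => by
      obtain ⟨h, hh⟩ := cov2_surjective (sigma t)
      exact ⟨⟨(h, t), hh⟩, rfl⟩
    have m1 : (commutator Cov6).map f1 = ⊤ := by
      rw [commutator_def, Subgroup.map_commutator, Subgroup.map_top_of_surjective _ s1,
        ← commutator_def]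
      exact Fi23.perfect
    have m2 : (commutator Cov6).map f2 = ⊤ := by
      rw [commutator_def, Subgroup.map_commutator, Subgroup.map_top_of_surjective _ s2,
        ← commutator_def]
      exact T_perfect
    have hz : z2 ∈ (commutator Cov6).map f1 := m1 ▸ Subgroup.mem_top _
    have ho : omT ∈ (commutator Cov6).map f2 := m2 ▸ Subgroup.mem_top _
    obtain ⟨a, ha, ha1⟩ := Subgroup.mem_map.mp hz
    obtain ⟨b, hb, hb2⟩ := Subgroup.mem_map.mp ho
    have ha' : cov6 a = 1 := (congrArg cov2 ha1).trans Fi23.cov_z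
    have hb' : sigma (b : H2 × T).2 = 1 := by
      have e : sigma omT = 1 := by rw [← MonoidHom.mem_ker, sigma_ker]; exact Subgroup.mem_zpowers _
      rw [show (b : H2 × T).2 = omT from hb2, e]
    have hb1 : cov2 (b : H2 × T).1 = 1 := (mem_Cov6.mp b.2).trans hb'
    obtain ⟨k, hk⟩ := Subgroup.mem_zpowers_iff.mp (cov6_ker ha').2
    have z3 : z2 ^ 3 = z2 := by rw [pow_succ, pow_two, z2_sq_and_ne.1, one_mul]
    have b4 : (b : H2 × T).1 ^ 4 = 1 := by
      rcases cov2_ker hb1 with e | e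
      · rw [e, one_pow]
      · rw [e, pow_succ, z3, z2_sq_and_ne.1]
    rw [ker_zpowers, Subgroup.zpowers_le]
    have : gen6 = a ^ 3 * b ^ 4 := by
      refine Subtype.ext (Prod.ext ?_ ?_)
      · rw [Subgroup.coe_mul, SubgroupClass.coe_pow, SubgroupClass.coe_pow, Prod.fst_mul,
          Prod.pow_fst, Prod.pow_fst, show ((gen6 : Cov6) : H2 × T).1 = z2 from rfl]
        rw [b4, mul_one, show (a : H2 × T).1 = z2 from ha1, z3]
      · rw [Subgroup.coe_mul, SubgroupClass.coe_pow, SubgroupClass.coe_pow, Prod.snd_mul,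
          Prod.pow_snd, Prod.pow_snd, show ((gen6 : Cov6) : H2 × T).2 = omT from rfl]
        rw [← hk, show (b : H2 × T).2 = omT from hb2, ← zpow_natCast (omT ^ k), ← zpow_mul,
          mul_comm, zpow_mul, zpow_natCast, omT_cube, one_zpow, one_mul, pow_succ, omT_cube,
          one_mul]
    rw [this]
    exact mul_mem (pow_mem ha 3) (pow_mem hb 4)

theorem multiplier : Cfsg.HasCyclicSchurMultiplier G 6 := by
  haveI := Fi23.finite
  refine ⟨⟨Cov6, inferInstance, inferInstance, cov6, cov6_stem, ⟨?_⟩⟩, fun Γ _ _ σ hσ => ?_⟩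
  · have hgen : ∀ x : cov6.ker, x ∈ Subgroup.zpowers (⟨gen6, gen6_spec⟩ : cov6.ker) := by
      intro x
      obtain ⟨m, hm⟩ := Subgroup.mem_zpowers_iff.mp
        (show (x : Cov6) ∈ Subgroup.zpowers gen6 by rw [← ker_zpowers]; exact x.2)
      exact Subgroup.mem_zpowers_iff.mpr ⟨m, Subtype.ext hm⟩
    haveI : IsCyclic cov6.ker := ⟨⟨⟨gen6, gen6_spec⟩, hgen⟩⟩
    have hc : Nat.card cov6.ker = 6 := by
      rw [← orderOf_eq_card_of_forall_mem_zpowers hgen, ← Subgroup.orderOf_coe]
      exact gen6_order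
    exact (hc ▸ zmodCyclicMulEquiv (G := cov6.ker) inferInstance).symm
  · exact bound hσ.1 hσ.2.1 hσ.2.2

end Cfsg.Agent.Fi22Mult94
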