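import Mathlib

/-!
# Square matrices over the two-element field as lists of packed rows
-/

set_option autoImplicit false

namespace Cfsg.Agent.Fi22Mult94

/-- The combination of rows selected by the bits of `r`. -/
noncomputable def comb (B : List ℕ) : ℕ → ℕ :=
  List.rec (motive := fun _ => ℕ → ℕ) (fun _ => 0)
    (fun b _ ih r => Bool.rec (motive := fun _ => ℕ) (Nat.xor b (ih (Nat.shiftRight r 1)))
      (ih (Nat.shiftRight r 1)) (Nat.beq (Nat.land r 1) 0)) B

theorem comb_nil (r : ℕ) : comb [] r = 0 := rfl

theorem comb_cons (b : ℕ) (B : List ℕ) (r : ℕ) :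
    comb (b :: B) r = (if r % 2 == 1 then b else 0) ^^^ comb B (r / 2) := by
  show Bool.rec (motive := fun _ => ℕ) (Nat.xor b (comb B (r >>> 1))) (comb B (r >>> 1))
    (Nat.beq (r &&& 1) 0) = _
  rw [Nat.and_one_is_mod, Nat.shiftRight_one]
  rcases Nat.mod_two_eq_zero_or_one r with h | h
  · simp [h]
  · simp only [h, BEq.rfl, if_true]
    rfl

/-- Product of packed matrices. -/
noncomputable def mulR (A B : List ℕ) : List ℕ := A.map (comb B)

/-- The packed identity. -/
def idR (n : ℕ) : List ℕ := (List.range n).map (fun i => 2 ^ i)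

/-- One bit as an element of the field. -/
def bitZ (r j : ℕ) : ZMod 2 := if r.testBit j then 1 else 0

/-- The matrix of packed rows. -/
def toM (n : ℕ) (L : List ℕ) : Matrix (Fin n) (Fin n) (ZMod 2) :=
  Matrix.of fun i j => bitZ (L.getD i 0) j

theorem bitZ_xor (a b j : ℕ) : bitZ (a ^^^ b) j = bitZ a j + bitZ b j := by
  unfold bitZ
  rw [Nat.testBit_xor]
  cases a.testBit j <;> cases b.testBit j <;> decide

theorem bitZ_comb : ∀ (B : List ℕ) (r j : ℕ),
    bitZ (comb B r) j = ∑ k ∈ Finset.range B.length, bitZ r k * bitZ (B.getD k 0) j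
  | [], r, j => by simp [comb_nil, bitZ]
  | b :: B, r, j => by
    rw [comb_cons, bitZ_xor, bitZ_comb B (r / 2) j, List.length_cons, Finset.sum_range_succ']
    rw [add_comm]
    congr 1
    · refine Finset.sum_congr rfl fun k _ => ?_
      rw [List.getD_cons_succ]
      congr 1
      simp [bitZ, Nat.testBit_succ]
    · rw [List.getD_cons_zero]
      rcases Nat.mod_two_eq_zero_or_one r with h | h
      · simp [bitZ, Nat.testBit_zero, h]
      · simp [bitZ, Nat.testBit_zero, h]

theorem length_mulR (A B : List ℕ) : (mulR A B).length = A.length := List.length_map _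

theorem toM_mulR {n : ℕ} {A B : List ℕ} (hA : A.length = n) (hB : B.length = n) :
    toM n (mulR A B) = toM n A * toM n B := by
  ext i j
  rw [Matrix.mul_apply]
  have hi : (i : ℕ) < A.length := by omega
  simp only [toM, Matrix.of_apply, mulR, List.getD_eq_getElem _ _ (by simpa using hi : (i : ℕ) <
    (A.map (comb B)).length), List.getElem_map]
  rw [bitZ_comb, hB, Finset.sum_range, List.getD_eq_getElem _ _ hi]

theorem getD_idR {n i : ℕ} (h : i < n) : (idR n).getD i 0 = 2 ^ i := by
  unfold idR
  rw [List.getD_eq_getElem _ _ (by simpa using h), List.getElem_map, List.getElem_range]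

theorem toM_idR (n : ℕ) : toM n (idR n) = 1 := by
  ext i j
  simp only [toM, Matrix.of_apply, getD_idR i.2, Matrix.one_apply, bitZ, Nat.testBit_two_pow]
  simp [Fin.ext_iff]

end Cfsg.Agent.Fi22Mult94
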