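import Cfsg.Agent.Lib.CosetEnum.Cox

/-!
# Certified rewriting of words in the Y332 Coxeter diagram

Letters `0..8` stand for `a b c d e f g h i`. A move `(k, p)` at position `p` deletes a square
(`k = 0`), swaps two commuting letters (`k = 1`) or applies a braid relation (`k = 2`).
-/

set_option autoImplicit false

namespace Cfsg.Agent.Fi22Mult94

open Cfsg.Agent.CosetEnum

/-- The edges of the diagram, both ways round. -/
def adjB (x y : ℕ) : Bool :=
  [(0, 1), (1, 2), (2, 3), (3, 4), (3, 7), (4, 5), (5, 6), (7, 8),
   (1, 0), (2, 1), (3, 2), (4, 3), (7, 3), (5, 4), (6, 5), (8, 7)].contains (x, y)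

/-- Two distinct letters with no edge. -/
def commB (x y : ℕ) : Bool := Nat.blt x 9 && Nat.blt y 9 && !(x == y) && !adjB x y

/-- One move. -/
def mv (del : Bool) (k : ℕ) : ℕ → List ℕ → Option (List ℕ)
  | p + 1, x :: W => (mv del k p W).map (x :: ·)
  | 0, x :: y :: W =>
    if k = 0 then (if del && x == y && Nat.blt x 9 then some W else none)
    else if k = 1 then (if commB x y then some (y :: x :: W) else none)
    else match W with
      | z :: W' => if adjB x y && z == x then some (y :: x :: y :: W') else none
      | [] => none
  | _, _ => none

/-- A list of moves. -/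
def mvs (del : Bool) : List (ℕ × ℕ) → List ℕ → Option (List ℕ)
  | [], W => some W
  | m :: ms, W => (mv del m.1 m.2 W).bind (mvs del ms)

/-- Two words are carried to the same word. -/
def certB (del : Bool) (A B : List ℕ) (ma mb : List (ℕ × ℕ)) : Bool :=
  match mvs del ma A, mvs del mb B with
  | some X, some Y => X == Y
  | _, _ => false

/-- A valuation of the letters satisfying the braid relations, and being involutions if `del`. -/
structure Braid {E : Type} [Group E] (f : ℕ → E) (del : Bool) : Prop where
  sq : del = true → ∀ x, x < 9 → f x * f x = 1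
  comm : ∀ x y, commB x y = true → f x * f y = f y * f x
  braid : ∀ x y, adjB x y = true → f x * (f y * f x) = f y * (f x * f y)

variable {E : Type} [Group E] {f : ℕ → E} {del : Bool}

theorem Braid.mv_eq (h : Braid f del) (k : ℕ) :
    ∀ (p : ℕ) (W W' : List ℕ), mv del k p W = some W' → evalWord f W = evalWord f W'
  | p + 1, [], W', e => by simp [mv] at e
  | p + 1, x :: W, W', e => by
    simp only [mv, Option.map_eq_some_iff] at e
    obtain ⟨U, hU, rfl⟩ := e
    show f x * evalWord f W = f x * evalWord f U
    rw [h.mv_eq k p W U hU]
  | 0, [], W', e => by simp [mv] at e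
  | 0, [_], W', e => by simp [mv] at e
  | 0, x :: y :: W, W', e => by
    simp only [mv] at e
    split at e
    · split at e
      · rename_i hc
        simp only [Bool.and_eq_true, beq_iff_eq] at hc
        obtain ⟨⟨hd, rfl⟩, hx⟩ := hc
        obtain rfl := Option.some.inj e
        show f x * (f x * evalWord f W) = evalWord f W
        rw [← mul_assoc, h.sq hd x (Nat.le_of_ble_eq_true hx), one_mul]
      · simp at e
    · split at e
      · split at e
        · rename_i hc
          obtain rfl := Option.some.inj e
          show f x * (f y * evalWord f W) = f y * (f x * evalWord f W)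
          rw [← mul_assoc, h.comm x y hc, mul_assoc]
        · simp at e
      · split at e
        · rename_i z W₀
          split at e
          · rename_i hc
            simp only [Bool.and_eq_true, beq_iff_eq] at hc
            obtain ⟨ha, rfl⟩ := hc
            obtain rfl := Option.some.inj e
            show f z * (f y * (f z * evalWord f W₀)) = f y * (f z * (f y * evalWord f W₀))
            have := congrArg (· * evalWord f W₀) (h.braid _ _ ha)
            simpa only [mul_assoc] using this
          · simp at e
        · simp at e

theorem Braid.mvs_eq (h : Braid f del) :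
    ∀ (ms : List (ℕ × ℕ)) (W W' : List ℕ), mvs del ms W = some W' → evalWord f W = evalWord f W'
  | [], W, W', e => by rw [Option.some.inj e]
  | m :: ms, W, W', e => by
    simp only [mvs, Option.bind_eq_some_iff] at e
    obtain ⟨U, hU, hU'⟩ := e
    exact (h.mv_eq m.1 m.2 W U hU).trans (h.mvs_eq ms U W' hU')

/-- A certificate proves equality of values. -/
theorem Braid.cert (h : Braid f del) {A B : List ℕ} {ma mb : List (ℕ × ℕ)}
    (c : certB del A B ma mb = true) : evalWord f A = evalWord f B := by
  unfold certB at c
  split at c
  · rename_i X Y hX hY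
    rw [beq_iff_eq] at c
    rw [h.mvs_eq ma A X hX, h.mvs_eq mb B Y hY, c]
  · simp at c

/-- A word times its reverse. -/
theorem mul_reverse {s : E} (hs : ∀ z : E, Commute s z) :
    ∀ W : List ℕ, (∀ x ∈ W, f x * f x = s) → evalWord f W * evalWord f W.reverse = s ^ W.length
  | [], _ => by simp [evalWord]
  | x :: W, h => by
    have ih := mul_reverse hs W fun y hy => h y (List.mem_cons_of_mem _ hy)
    rw [List.reverse_cons, evalWord_append]
    show f x * evalWord f W * (evalWord f W.reverse * (f x * 1)) = _
    rw [mul_one, mul_assoc (f x), ← mul_assoc (evalWord f W), ih,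
      ((hs (f x)).pow_left W.length).eq, ← mul_assoc, h x List.mem_cons_self,
      List.length_cons, pow_succ']

theorem eval_reverse (hsq : ∀ x, x < 9 → f x * f x = 1) {W : List ℕ}
    (hW : W.all (fun x => Nat.blt x 9) = true) : evalWord f W.reverse = (evalWord f W)⁻¹ := by
  rw [eq_inv_iff_mul_eq_one, ← mul_eq_one_comm]
  have := mul_reverse (f := f) (fun z => Commute.one_left z) W fun x hx =>
    hsq x (Nat.le_of_ble_eq_true (List.all_eq_true.mp hW x hx))
  simpa using this

end Cfsg.Agent.Fi22Mult94
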